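import Mathlib
import Cfsg.Agent.S0217
import Cfsg.Agent.S0205
import Cfsg.Agent.Lib.H27.LayerFree
import Cfsg.Agent.Lib.H5.PLocal
import Cfsg.Agent.Lib.H59.PCons2
import Cfsg.Agent.Lib.H59.Fus1
import Cfsg.Agent.Lib.H75.Basic

/-! Groups of characteristic 2 type in the early sense: the odd cores of 2-locals are trivial. -/

set_option autoImplicit false
set_option linter.unusedSectionVars false
set_option linter.style.haveILetI false
open Subgroup Cfsg H59.CharP

namespace H59.EarlyTwo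

universe u
variable {G : Type u} [Group G] [Finite G]

theorem not_two_dvd_core (t : G) : ¬ 2 ∣ Nat.card (centralizerPPrimeCore 2 t) := by
  intro h
  exact (Nat.Prime.coprime_iff_not_dvd Nat.prime_two).mp (H26.LocalFitting.card_ppc 2 _).symm h

theorem bal (hcon : ∀ t : G, orderOf t = 2 → IsPConstrained 2 ↥(centralizer ({t} : Set G)))
    {a b : G} (ha : orderOf a = 2) (hb : orderOf b = 2) (hab : a * b = b * a) :
    centralizerPPrimeCore 2 a ⊓ centralizer {b} ≤ centralizerPPrimeCore 2 b := by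
  have : Fact (Nat.Prime 2) := ⟨Nat.prime_two⟩
  exact H27.LayerFree.core_bal ha ((Cfsg.Agent.S1327.result 2).1 (hcon b hb)) hab

theorem conj_mem_core {a x : G} (hx : x ∈ centralizerPPrimeCore 2 a) (g : G) :
    g * x * g⁻¹ ∈ centralizerPPrimeCore 2 (g * a * g⁻¹) := by
  have : Fact (Nat.Prime 2) := ⟨Nat.prime_two⟩
  rw [H27.LayerFree.core_equiv]
  exact ⟨x, hx, rfl⟩

/-- the subgroup of elements of square one of an abelian subgroup -/
def omg (A : Subgroup G) (hA : ∀ a ∈ A, ∀ b ∈ A, a * b = b * a) : Subgroup G where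
  carrier := {a | a ∈ A ∧ a ^ 2 = 1}
  one_mem' := ⟨A.one_mem, one_pow 2⟩
  mul_mem' := by
    rintro a b ⟨ha, ha2⟩ ⟨hb, hb2⟩
    refine ⟨A.mul_mem ha hb, ?_⟩
    have hc : Commute a b := hA a ha b hb
    rw [hc.mul_pow, ha2, hb2, one_mul]
  inv_mem' := by
    rintro a ⟨ha, ha2⟩
    exact ⟨A.inv_mem ha, by rw [inv_pow, ha2, inv_one]⟩

theorem mem_omg {A : Subgroup G} {hA : ∀ a ∈ A, ∀ b ∈ A, a * b = b * a} {x : G} :
    x ∈ omg A hA ↔ x ∈ A ∧ x ^ 2 = 1 := Iff.rfl

theorem orderOf_of_mem_omg {A : Subgroup G} {hA : ∀ a ∈ A, ∀ b ∈ A, a * b = b * a} {x : G}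
    (hx : x ∈ omg A hA) (h1 : x ≠ 1) : orderOf x = 2 :=
  orderOf_eq_prime hx.2 h1

theorem eight_le_card_omg {A : Subgroup G} (hA : ∀ a ∈ A, ∀ b ∈ A, a * b = b * a)
    (hA3 : ¬ PRankLE 2 2 ↥A) : 8 ≤ Nat.card (omg A hA) := by
  have : Fact (Nat.Prime 2) := ⟨Nat.prime_two⟩
  unfold PRankLE at hA3
  push Not at hA3
  obtain ⟨B, -, hB2, hB4⟩ := hA3
  have hle : B.map A.subtype ≤ omg A hA := by
    rintro x ⟨b, hb, rfl⟩
    exact ⟨b.2, congrArg Subtype.val (hB2 b hb)⟩
  have h1 : Nat.card B ≤ Nat.card (omg A hA) := by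
    rw [Nat.card_congr (B.equivMapOfInjective A.subtype A.subtype_injective).toEquiv]
    exact Nat.le_of_dvd Nat.card_pos (card_dvd_of_le hle)
  have hp : IsPGroup 2 (omg A hA) := by
    rintro ⟨x, hx⟩
    exact ⟨1, Subtype.ext (by simpa using hx.2)⟩
  obtain ⟨n, hn⟩ := IsPGroup.iff_card.1 hp
  have h2 : 4 < 2 ^ n := by rw [← hn]; omega
  have h3 : 3 ≤ n := by
    by_contra hcon
    have : n ≤ 2 := by omega
    interval_cases n <;> omega
  rw [hn]
  calc 8 = 2 ^ 3 := by norm_num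
    _ ≤ 2 ^ n := Nat.pow_le_pow_right (by norm_num) h3

/-- The signalizer functor theorem kills the odd cores of the involutions of `Ω`. -/
theorem core_omg (hcon : ∀ t : G, orderOf t = 2 → IsPConstrained 2 ↥(centralizer ({t} : Set G)))
    (S : Sylow 2 G) {A : Subgroup G} (hA : ∀ a ∈ A, ∀ b ∈ A, a * b = b * a)
    (hSA : (S : Subgroup G) ≤ normalizer (A : Set G)) (hA3 : ¬ PRankLE 2 2 ↥A)
    (hinv : ∀ X : Subgroup G, Odd (Nat.card ↥X) → (S : Subgroup G) ≤ normalizer (X : Set G) → X = ⊥)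
    {a : G} (ha : a ∈ omg A hA) (ha1 : a ≠ 1) : centralizerPPrimeCore 2 a = ⊥ := by
  have : Fact (Nat.Prime 2) := ⟨Nat.prime_two⟩
  have hord : ∀ a ∈ omg A hA, a ≠ 1 → orderOf a = 2 := fun a h h1 => orderOf_of_mem_omg h h1
  have hcomm : ∀ a ∈ omg A hA, ∀ b ∈ omg A hA, a * b = b * a := fun a ha b hb => hA a ha.1 b hb.1
  obtain ⟨hW, -⟩ := Cfsg.Agent.S0217.result (p := 2) (omg A hA) hcomm (fun a ha => ha.2)
    (by have := eight_le_card_omg hA hA3; omega) (centralizerPPrimeCore 2)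
    (fun a _ _ => map_subtype_le _) (fun a _ _ => not_two_dvd_core a)
    (fun a ha _ b hb x hx => by
      have := conj_mem_core hx b
      rwa [show b * a * b⁻¹ = a by rw [hcomm b hb a ha, mul_inv_cancel_right]] at this)
    (fun a _ _ => by
      apply Cfsg.Agent.S0205.result
      rw [← Nat.not_even_iff_odd, even_iff_two_dvd]
      exact not_two_dvd_core a)
    (fun a ha ha1 b hb hb1 => bal hcon (hord a ha ha1) (hord b hb hb1) (hcomm a ha b hb))
  set W : Subgroup G := ⨆ a : {a : G // a ∈ omg A hA ∧ a ≠ 1}, centralizerPPrimeCore 2 (a : G) with hWd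
  have hSW : (S : Subgroup G) ≤ normalizer (W : Set G) := by
    intro s hs
    apply H75.Basic.mem_normalizer_of_conj_mem
    have h1 : W ≤ W.comap (MulAut.conj s).toMonoidHom := by
      rw [hWd]
      apply iSup_le
      rintro ⟨b, hb, hb1⟩ x hx
      rw [Subgroup.mem_comap]
      have hb' : s * b * s⁻¹ ∈ omg A hA := by
        refine ⟨(mem_normalizer_iff.1 (hSA hs) b).1 hb.1, ?_⟩
        have : (s * b * s⁻¹) ^ 2 = s * b ^ 2 * s⁻¹ := by rw [pow_two, pow_two]; group
        rw [this, hb.2, mul_one, mul_inv_cancel]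
      have hb1' : s * b * s⁻¹ ≠ 1 := by
        intro h
        apply hb1
        have : b = s⁻¹ * (s * b * s⁻¹) * s := by group
        rw [this, h]; group
      exact le_iSup (fun a : {a : G // a ∈ omg A hA ∧ a ≠ 1} => centralizerPPrimeCore 2 (a : G))
        ⟨s * b * s⁻¹, hb', hb1'⟩ (conj_mem_core hx s)
    intro z hz
    exact h1 hz
  have hW1 : W = ⊥ := by
    apply hinv W _ hSW
    rw [← Nat.not_even_iff_odd, even_iff_two_dvd]
    exact hW
  rw [eq_bot_iff, ← hW1]
  exact le_iSup (fun a : {a : G // a ∈ omg A hA ∧ a ≠ 1} => centralizerPPrimeCore 2 (a : G)) ⟨a, ha, ha1⟩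

/-- an involution acting on an elementary abelian group of order at least 8 fixes at least three
elements -/
theorem three_le_fix {A : Subgroup G} (hA : ∀ a ∈ A, ∀ b ∈ A, a * b = b * a)
    (h8 : 8 ≤ Nat.card (omg A hA)) {t : G} (ht : t * t = 1) (htA : t ∈ normalizer (A : Set G)) :
    3 ≤ Nat.card (omg A hA ⊓ centralizer {t} : Subgroup G) := by
  classical
  have htO : ∀ a ∈ omg A hA, t * a * t⁻¹ ∈ omg A hA := by
    intro a ha
    refine ⟨(mem_normalizer_iff.1 htA a).1 ha.1, ?_⟩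
    have : (t * a * t⁻¹) ^ 2 = t * a ^ 2 * t⁻¹ := by rw [pow_two, pow_two]; group
    rw [this, ha.2, mul_one, mul_inv_cancel]
  have hti : t⁻¹ = t := inv_eq_of_mul_eq_one_left ht
  let φ : omg A hA →* G :=
    { toFun := fun a => (a : G) * (t * a * t⁻¹)
      map_one' := by simp
      map_mul' := by
        intro a b
        have h1 : (b : G) * (t * a * t⁻¹) = (t * a * t⁻¹) * b := hA b b.2.1 _ (htO a a.2).1
        calc ((a * b : omg A hA) : G) * (t * ((a * b : omg A hA) : G) * t⁻¹)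
            = (a : G) * (b * (t * a * t⁻¹)) * (t * b * t⁻¹) := by
              rw [Subgroup.coe_mul]; group
          _ = (a : G) * (t * a * t⁻¹) * ((b : G) * (t * b * t⁻¹)) := by rw [h1]; group }
  have hker : Nat.card φ.ker ≤ Nat.card (omg A hA ⊓ centralizer {t} : Subgroup G) := by
    apply Nat.card_le_card_of_injective
      (fun x : φ.ker => (⟨((x : omg A hA) : G), ?_⟩ : (omg A hA ⊓ centralizer {t} : Subgroup G)))
    · intro x y hxy
      apply Subtype.ext
      apply Subtype.ext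
      exact congrArg (fun z : (omg A hA ⊓ centralizer {t} : Subgroup G) => (z : G)) hxy
    · refine mem_inf.2 ⟨x.1.2, ?_⟩
      rw [mem_centralizer_singleton_iff]
      have h1 : ((x : omg A hA) : G) * (t * (x : omg A hA) * t⁻¹) = 1 := MonoidHom.mem_ker.1 x.2
      have h2 : ((x : omg A hA) : G) * ((x : omg A hA) : G) = 1 := by
        rw [← pow_two]; exact x.1.2.2
      have h3 : t * (x : omg A hA) * t⁻¹ = ((x : omg A hA) : G) :=
        mul_left_cancel (h1.trans h2.symm)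
      exact (mul_inv_eq_iff_eq_mul.1 h3).symm
  have hran : Nat.card φ.range ≤ Nat.card (omg A hA ⊓ centralizer {t} : Subgroup G) := by
    apply Nat.le_of_dvd Nat.card_pos
    apply card_dvd_of_le
    rintro y ⟨x, rfl⟩
    refine mem_inf.2 ⟨(omg A hA).mul_mem x.2 (htO x x.2), ?_⟩
    rw [mem_centralizer_singleton_iff]
    have h1 : (t * x * t⁻¹) * (x : G) = (x : G) * (t * x * t⁻¹) := hA _ (htO x x.2).1 _ x.2.1
    show (x : G) * (t * x * t⁻¹) * t = t * ((x : G) * (t * x * t⁻¹))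
    calc (x : G) * (t * x * t⁻¹) * t = (t * x * t⁻¹) * x * t := by rw [h1]
      _ = t * ((x : G) * (t⁻¹ * x * t)) := by group
      _ = t * ((x : G) * (t * x * t⁻¹)) := by rw [hti]
  have hcard : Nat.card (omg A hA) = Nat.card φ.range * Nat.card φ.ker := by
    rw [← Subgroup.card_mul_index φ.ker, Subgroup.index_ker, mul_comm]
  by_contra hcon
  have h1 : Nat.card (omg A hA ⊓ centralizer {t} : Subgroup G) ≤ 2 := by omega
  have h2 : Nat.card φ.range * Nat.card φ.ker ≤ 2 * 2 :=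
    Nat.mul_le_mul (hran.trans h1) (hker.trans h1)
  omega

/-- All odd cores of centralizers of involutions are trivial. -/
theorem core_eq_bot (hcon : ∀ t : G, orderOf t = 2 → IsPConstrained 2 ↥(centralizer ({t} : Set G)))
    (S : Sylow 2 G) {A : Subgroup G} (hA : ∀ a ∈ A, ∀ b ∈ A, a * b = b * a)
    (hSA : (S : Subgroup G) ≤ normalizer (A : Set G)) (hA3 : ¬ PRankLE 2 2 ↥A)
    (hinv : ∀ X : Subgroup G, Odd (Nat.card ↥X) → (S : Subgroup G) ≤ normalizer (X : Set G) → X = ⊥)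
    {t : G} (ht : orderOf t = 2) : centralizerPPrimeCore 2 t = ⊥ := by
  classical
  have : Fact (Nat.Prime 2) := ⟨Nat.prime_two⟩
  -- the case of an involution of `S`
  have key : ∀ t : G, t ∈ (S : Subgroup G) → orderOf t = 2 → centralizerPPrimeCore 2 t = ⊥ := by
    intro t htS ht
    have htt : t * t = 1 := H5.Dihedral.mul_self ht
    have h3 := three_le_fix hA (eight_le_card_omg hA hA3) htt (hSA htS)
    set F : Subgroup G := omg A hA ⊓ centralizer {t} with hF
    have hex : ∃ e₁ e₂ : G, e₁ ∈ F ∧ e₂ ∈ F ∧ e₁ ≠ 1 ∧ e₂ ≠ 1 ∧ e₁ ≠ e₂ := by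
      have h4 : 1 < ((F : Set G) \ {1}).ncard := by
        rw [Set.ncard_sdiff_singleton_of_mem F.one_mem]
        have : (F : Set G).ncard = Nat.card F := rfl
        omega
      obtain ⟨e₁, he₁, e₂, he₂, hne⟩ := (Set.one_lt_ncard (Set.toFinite _)).1 h4
      exact ⟨e₁, e₂, he₁.1, he₂.1, he₁.2, he₂.2, hne⟩
    obtain ⟨e₁, e₂, he₁, he₂, h1, h2, hne⟩ := hex
    have hfix : ∀ e ∈ F, e ≠ 1 → ∀ y ∈ centralizerPPrimeCore 2 t, e * y = y * e → y = 1 := by
      intro e he he1 y hy hey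
      have h5 := bal hcon ht (orderOf_of_mem_omg (mem_inf.1 he).1 he1)
        ((mem_centralizer_singleton_iff.1 (mem_inf.1 he).2).symm)
      have h6 : y ∈ centralizerPPrimeCore 2 e := h5 (mem_inf.2 ⟨hy, by
        rw [mem_centralizer_singleton_iff]; exact hey.symm⟩)
      rw [core_omg hcon S hA hSA hA3 hinv (mem_inf.1 he).1 he1, mem_bot] at h6
      exact h6
    have hnor : ∀ e ∈ F, e ∈ normalizer (centralizerPPrimeCore 2 t : Set G) := fun e he =>
      H26.LocalFitting.le_normalizer_ppc 2 _ (mem_inf.1 he).2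
    apply H59.Fus1.eq_bot_of_klein (v₁ := e₁) (v₂ := e₂) (mem_inf.1 he₁).1.2 (mem_inf.1 he₂).1.2
      (hnor e₁ he₁) (hnor e₂ he₂) (hfix e₁ he₁ h1) (hfix e₂ he₂ h2)
    apply hfix (e₁ * e₂) (F.mul_mem he₁ he₂)
    intro h
    apply hne
    have h7 : e₂ * e₂ = 1 := by rw [← pow_two]; exact (mem_inf.1 he₂).1.2
    exact mul_right_cancel (h.trans h7.symm)
  obtain ⟨g, hg⟩ := H5.PLocal.exists_conj_mem_sylow S ht
  have h1 := key _ hg (by rw [H5.Dihedral.orderOf_conj, ht])
  rw [eq_bot_iff]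
  intro x hx
  have h2 := conj_mem_core hx g
  rw [h1, mem_bot] at h2
  rw [mem_bot]
  have : x = g⁻¹ * (g * x * g⁻¹) * g := by group
  rw [this, h2]; group

/-- characteristic 2 type -/
theorem CT_cent (hcon : ∀ t : G, orderOf t = 2 → IsPConstrained 2 ↥(centralizer ({t} : Set G)))
    (hcore : ∀ t : G, orderOf t = 2 → centralizerPPrimeCore 2 t = ⊥) {t : G} (ht : orderOf t = 2) :
    CT 2 ↥(centralizer ({t} : Set G)) := by
  have : Fact (Nat.Prime 2) := ⟨Nat.prime_two⟩
  apply H59.PCons.CT_of_isPConstrained (hcon t ht)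
  have h1 := hcore t ht
  unfold centralizerPPrimeCore at h1
  exact (Subgroup.map_eq_bot_iff_of_injective _ (Subgroup.subtype_injective _)).1 h1

theorem CT_norm (hcon : ∀ t : G, orderOf t = 2 → IsPConstrained 2 ↥(centralizer ({t} : Set G)))
    (hcore : ∀ t : G, orderOf t = 2 → centralizerPPrimeCore 2 t = ⊥) {T : Subgroup G}
    (hTp : IsPGroup 2 T) (hT : T ≠ ⊥) : CT 2 ↥(normalizer (T : Set G)) := by
  have : Fact (Nat.Prime 2) := ⟨Nat.prime_two⟩
  obtain ⟨t, htT, ht2, htc⟩ := H59.PCons2.exists_central_orderOf_eq hTp hT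
  apply H59.PCons2.CT_normalizer_of_CT_centralizer hTp
  apply H59.PCons2.CT_centralizer_of_le (CT_cent hcon hcore ht2) _ hTp
  · intro x hx
    rw [mem_centralizer_singleton_iff]
    exact mem_centralizer_iff.1 hx t htT |>.symm
  · intro x hx
    rw [mem_centralizer_singleton_iff]
    exact htc x hx

end H59.EarlyTwo
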