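import Mathlib
import Cfsg.Agent.Lib.H59.KleinN3

/-! S3278: the counting argument, main theorem. -/

set_option autoImplicit false
open Subgroup Cfsg

namespace H59.KleinN

universe u
variable {G : Type u} [Group G] [Finite G]

theorem sum_classInd [Fintype G] (x : G) {χ : G → ℂ} (hχ : IsClassFunction G χ) :
    ∑ g : G, H18.CharInd.classInd x g * χ g =
      ((centralizer ({x} : Set G)).index : ℂ) * χ x := by
  classical
  have h1 : ∀ g : G, H18.CharInd.classInd x g * χ g = if IsConj x g then χ x else 0 := by
    intro g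
    unfold H18.CharInd.classInd
    split_ifs with h
    · obtain ⟨c, rfl⟩ := isConj_iff.1 h
      rw [one_mul]; exact hχ x c
    · rw [zero_mul]
  rw [Finset.sum_congr rfl fun g _ => h1 g, ← Finset.sum_filter, Finset.sum_const, nsmul_eq_mul]
  congr 2
  rw [← H18.CharInd.card_isConj_eq_index, Nat.card_eq_fintype_card, Fintype.card_subtype]

variable {x : G} (hx : orderOf x = 2) {V : Subgroup G}
    (hle : V ≤ centralizer ({x} : Set G)) (hK : IsKleinFour V)
    (hodd : ¬ 2 ∣ V.relIndex (centralizer ({x} : Set G)))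
    (hn : (V.subgroupOf (centralizer ({x} : Set G))).Normal)
include hx hle hK hodd hn

/-- if `h` conjugates `x` to an element of `V` then `h` normalizes `V` -/
theorem mem_normalizer_of_conj {h : G} (hc : h * x * h⁻¹ ∈ V) : h ∈ normalizer (V : Set G) := by
  have h1 : ∀ y ∈ V, h⁻¹ * y * h⁻¹⁻¹ ∈ V := by
    intro y hy
    have hcomm := H5.KleinSylow.comm hK hy hc
    apply mem_of_pelt hle hodd hn
    · rw [mem_centralizer_singleton_iff]
      have := congrArg (fun t => h⁻¹ * t * h) hcomm
      simpa [mul_assoc] using this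
    · by_cases hy1 : y = 1
      · subst hy1; exact ⟨0, by simp⟩
      · refine ⟨1, ?_⟩
        rw [H5.Dihedral.orderOf_conj, H5.KleinSylow.orderOf_eq hK hy hy1, pow_one]
  have h2 : h⁻¹ ∈ normalizer (V : Set G) := mem_normalizer_fintype h1
  exact (inv_mem_iff).1 h2

theorem relIndex_three (hall : ∀ s t : G, orderOf s = 2 → orderOf t = 2 → IsConj s t) :
    (centralizer ({x} : Set G)).relIndex (normalizer (V : Set G)) = 3 := by
  classical
  set N := normalizer (V : Set G) with hN
  letI : MulAction N G := MulAction.compHom G ((MulAut.conj : G →* MulAut G).comp N.subtype)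
  have hsm : ∀ (n : N) (g : G), n • g = (n : G) * g * (n : G)⁻¹ := fun n g => rfl
  have h1 : MulAction.stabilizer N x = (centralizer ({x} : Set G)).subgroupOf N := by
    ext n
    rw [MulAction.mem_stabilizer_iff, hsm, mem_subgroupOf, mem_centralizer_singleton_iff,
      mul_inv_eq_iff_eq_mul]
  have hxV := self_mem hx hle hK hodd hn
  have hx1 : x ≠ 1 := by rintro rfl; simp at hx
  have h2 : MulAction.orbit N x = (V : Set G) \ {1} := by
    ext y
    rw [MulAction.mem_orbit_iff]
    constructor
    · rintro ⟨n, rfl⟩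
      rw [hsm]
      refine ⟨(mem_normalizer_iff.1 n.2 x).1 hxV, ?_⟩
      intro h
      exact hx1 (conj_eq_one_iff.1 h)
    · rintro ⟨hy, hy1⟩
      have hy2 := H5.KleinSylow.orderOf_eq hK hy hy1
      obtain ⟨c, hc⟩ := isConj_iff.1 (hall x y hx hy2)
      exact ⟨⟨c, mem_normalizer_of_conj hx hle hK hodd hn (by rw [hc]; exact hy)⟩, hc⟩
  rw [relIndex, ← h1, MulAction.index_stabilizer, h2, Set.ncard_diff (by
    rw [Set.singleton_subset_iff]; exact one_mem V), Set.ncard_singleton]
  have : (V : Set G).ncard = 4 := hK.card_four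
  rw [this]

theorem mem_of_comm (hall : ∀ s t : G, orderOf s = 2 → orderOf t = 2 → IsConj s t) {c w : G}
    (hc : c ∈ V) (hc1 : c ≠ 1) (hw : orderOf w = 2) (h : w * c = c * w) : w ∈ V := by
  have hc2 := H5.KleinSylow.orderOf_eq hK hc hc1
  obtain ⟨k, rfl⟩ := isConj_iff.1 (hall x c hx hc2)
  have hk := mem_normalizer_of_conj hx hle hK hodd hn hc
  have h1 : k⁻¹ * w * k ∈ V := by
    apply mem_of_pelt hle hodd hn
    · rw [mem_centralizer_singleton_iff]
      have := congrArg (fun t => k⁻¹ * t * k) h
      simpa [mul_assoc] using this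
    · refine ⟨1, ?_⟩
      have := H5.Dihedral.orderOf_conj w k⁻¹
      rw [inv_inv] at this
      rw [this, hw, pow_one]
  exact (mem_normalizer_iff''.1 hk w).2 h1

theorem main [IsSimpleGroup G] : Nonempty (G ≃* alternatingGroup (Fin 5)) := by
  classical
  letI := Fintype.ofFinite G
  have hV4 : Nat.card V = 4 := hK.card_four
  have hxV := self_mem hx hle hK hodd hn
  have hx1 : x ≠ 1 := by rintro rfl; simp at hx
  have hxx : x * x = 1 := H5.Dihedral.mul_self hx
  have hna : ¬ ∀ a b : G, a * b = b * a := fun h => not_comm_of_four hV4 h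
  obtain ⟨S, hS, hall⟩ := one_class hx hle hK hodd hn
  obtain ⟨M, hM⟩ := H78.Cong.exists_isPModular Nat.prime_two
  obtain ⟨ζ₂, ζ₃, ζ₄, ε, hε, hne2, hne3, -, -, -, -, hval, hd2, hd3, hd4, hrel⟩ :=
    H20.Klein.main hM S (by rw [hS]; exact hK) hall
  -- another involution of V
  obtain ⟨z, hzV, hz1, hxz⟩ : ∃ z ∈ V, z ≠ 1 ∧ x ≠ z := by
    by_contra hcon
    push Not at hcon
    have h1 : (V : Set G) ⊆ {1, x} := by
      intro v hv
      by_cases hv1 : v = 1
      · left; exact hv1
      · right; exact (hcon v hv hv1).symm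
    have h2 : (V : Set G).ncard ≤ ({1, x} : Set G).ncard := Set.ncard_le_ncard h1 (Set.toFinite _)
    have h3 : (V : Set G).ncard = 4 := hV4
    have h4 : ({1, x} : Set G).ncard ≤ 2 := (Set.ncard_insert_le 1 {x}).trans (by rw [Set.ncard_singleton])
    omega
  have hz2 := H5.KleinSylow.orderOf_eq hK hzV hz1
  have hzz : z * z = 1 := H5.Dihedral.mul_self hz2
  have hxzc : x * z = z * x := H5.KleinSylow.comm hK hxV hzV
  -- irreducibles
  have hI : ∀ χ : IrrCharacter G, ∑ g : G, H18.CharInd.classInd x g * (χ : G → ℂ) (g * x) =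
      ((centralizer ({x} : Set G)).index : ℂ) * (χ : G → ℂ) x * (χ : G → ℂ) x / (charDegree (χ : G → ℂ) : ℂ) := by
    intro χ
    rw [H18.CharCentral.sum_mul_shift χ.2 (H18.CharInd.isClassFunction_classInd x) x,
      sum_classInd x (H20.Height.irr_class χ), H82.Deg.coe_charDegree' χ]
    ring
  set K : ℂ := ((centralizer ({x} : Set G)).index : ℂ) with hKdef
  set J : G → ℂ := fun g => 1 + (ζ₂ : G → ℂ) g + (ε : ℂ) * (ζ₃ : G → ℂ) g - (ζ₄ : G → ℂ) g with hJ
  have hεε : (ε : ℂ) * (ε : ℂ) = 1 := by
    rcases hε with h | h <;> simp [h]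
  have hJinv : ∀ g, orderOf g = 2 → J g = 4 := by
    intro g hg
    obtain ⟨h1, h2, h3⟩ := hval g hg
    simp only [hJ]
    rw [h1, h2, h3, hεε]; norm_num
  have hJodd : ∀ g, Odd (orderOf g) → J g = 0 := fun g hg => hrel g hg
  have hcl : ∀ g : G, H18.CharInd.classInd x g * J (g * x) = if g = z ∨ g = x * z then 4 else 0 := by
    intro g
    by_cases hg : IsConj x g
    · rw [H18.CharInd.classInd_of_isConj hg, one_mul]
      have hg2 : orderOf g = 2 := by
        obtain ⟨c, rfl⟩ := isConj_iff.1 hg
        rw [H5.Dihedral.orderOf_conj, hx]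
      have hgg : g * g = 1 := H5.Dihedral.mul_self hg2
      rcases Nat.even_or_odd (orderOf (g * x)) with he | ho
      · obtain ⟨w1, w2, w3⟩ := H5.Dihedral.central_pow hgg hxx (orderOf_pos _).ne' he
        set w := (g * x) ^ (orderOf (g * x) / 2) with hw
        have hwV : w ∈ V := mem_of_pelt hle hodd hn (mem_centralizer_singleton_iff.2 w3.eq) ⟨1, by rw [w1]; rfl⟩
        have hw1 : w ≠ 1 := by intro h; rw [h] at w1; simp at w1
        have hgV : g ∈ V := mem_of_comm hx hle hK hodd hn hall hwV hw1 hg2 w2.eq.symm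
        have hg1 : g ≠ 1 := by rintro rfl; simp at hg2
        have hgx : g ≠ x := by
          rintro rfl
          rw [hgg, orderOf_one] at he
          exact absurd he (by decide)
        have hgcase : g = z ∨ g = x * z := by
          rcases H59.Klein1.four_cases hK hxV hzV hx1 hz1 hxz hgV with h | h | h | h
          · exact absurd h hg1
          · exact absurd h hgx
          · exact Or.inl h
          · exact Or.inr h
        rw [if_pos hgcase]
        apply hJinv
        apply H5.KleinSylow.orderOf_eq hK (mul_mem hgV hxV)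
        intro h
        apply hgx
        have : g * x * x = x := by rw [h, one_mul]
        rwa [mul_assoc, hxx, mul_one] at this
      · rw [hJodd _ ho, if_neg]
        rintro (h | h)
        · rw [h] at ho
          have h5 : orderOf (z * x) = 2 := by
            apply H5.KleinSylow.orderOf_eq hK (mul_mem hzV hxV)
            intro h
            apply hxz
            have : z * x * x = x := by rw [h, one_mul]
            rw [mul_assoc, hxx, mul_one] at this
            exact this.symm
          rw [h5] at ho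
          exact absurd ho (by decide)
        · rw [h, hxzc, mul_assoc, hxx, mul_one, hz2] at ho
          exact absurd ho (by decide)
    · unfold H18.CharInd.classInd
      rw [if_neg hg, zero_mul, if_neg]
      rintro (h | h)
      · exact hg (h ▸ hall x z hx hz2)
      · apply hg
        rw [h]
        apply hall _ _ hx
        apply H5.KleinSylow.orderOf_eq hK (mul_mem hxV hzV)
        intro h
        apply hxz
        have : x * (x * z) = x := by rw [h, mul_one]
        rw [← mul_assoc, hxx, one_mul] at this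
        exact this.symm
  have hsum : ∑ g : G, H18.CharInd.classInd x g * J (g * x) = 8 := by
    rw [Finset.sum_congr rfl fun g _ => hcl g, ← Finset.sum_filter, Finset.sum_const, nsmul_eq_mul]
    have h1 : (Finset.univ.filter fun g : G => g = z ∨ g = x * z) = {z, x * z} := by
      ext g; simp
    rw [h1, Finset.card_pair]
    · norm_num
    · intro h
      apply hx1
      have : 1 * z = x * z := by rw [one_mul]; exact h
      exact (mul_right_cancel this).symm
  -- the constant character
  have hc1 : ∑ g : G, H18.CharInd.classInd x g * (1 : ℂ) = K := by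
    have := sum_classInd x (χ := fun _ : G => (1 : ℂ)) (fun _ _ => rfl)
    simpa using this
  obtain ⟨v2, v3, v4⟩ := hval x hx
  have hsum2 : ∑ g : G, H18.CharInd.classInd x g * J (g * x) =
      K + K / (charDegree (ζ₂ : G → ℂ) : ℂ) + (ε : ℂ) * (K / (charDegree (ζ₃ : G → ℂ) : ℂ)) -
        K / (charDegree (ζ₄ : G → ℂ) : ℂ) := by
    have e1 : ∀ g : G, H18.CharInd.classInd x g * J (g * x) =
        H18.CharInd.classInd x g * 1 + H18.CharInd.classInd x g * (ζ₂ : G → ℂ) (g * x) +
        (ε : ℂ) * (H18.CharInd.classInd x g * (ζ₃ : G → ℂ) (g * x)) -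
        H18.CharInd.classInd x g * (ζ₄ : G → ℂ) (g * x) := by
      intro g; simp only [hJ]; ring
    rw [Finset.sum_congr rfl fun g _ => e1 g, Finset.sum_sub_distrib, Finset.sum_add_distrib,
      Finset.sum_add_distrib, ← Finset.mul_sum, hc1, hI, hI, hI, v2, v3, v4]
    have : K * (ε : ℂ) * (ε : ℂ) = K := by rw [mul_assoc, hεε, mul_one]
    rw [this]
    ring
  set a := charDegree (ζ₂ : G → ℂ) with ha
  set b := charDegree (ζ₃ : G → ℂ) with hb
  set c := charDegree (ζ₄ : G → ℂ) with hc
  -- degrees
  have ha3 : 3 ≤ a := by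
    have h1 : a ≠ 1 := fun h => hne2 (eq_one_of_degree hna ζ₂ h)
    obtain ⟨k, hk⟩ := hd2
    omega
  have hb3 : 3 ≤ b := by
    have h1 : b ≠ 1 := fun h => hne3 (eq_one_of_degree hna ζ₃ h)
    obtain ⟨k, hk⟩ := hd3
    rcases hε with h | h <;> rw [h] at hk <;> omega
  have hc3 : 3 ≤ c := by
    obtain ⟨k, hk⟩ := hd4
    omega
  have hdeg : (1 : ℤ) + a + ε * b - c = 0 := by
    have h1 := hrel 1 (by simp)
    rw [← H82.Deg.coe_charDegree', ← H82.Deg.coe_charDegree', ← H82.Deg.coe_charDegree'] at h1
    exact_mod_cast h1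
  set N := normalizer (V : Set G) with hNdef
  have hCN : centralizer ({x} : Set G) ≤ N := by
    intro g hg
    apply mem_normalizer_of_conj hx hle hK hodd hn
    have : g * x * g⁻¹ = x := by
      rw [mem_centralizer_singleton_iff.1 hg]; group
    rw [this]; exact hxV
  have hidx : (centralizer ({x} : Set G)).index = 3 * N.index := by
    rw [← relIndex_mul_index hCN, relIndex_three hx hle hK hodd hn hall]
  have hKN : K = 3 * (N.index : ℂ) := by
    rw [hKdef, hidx]; push_cast; ring
  have heq : (3 * N.index : ℤ) * (a * b * c + b * c + ε * (a * c) - a * b) = 8 * (a * b * c) := by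
    rw [hsum, hKN] at hsum2
    have ha0 : (a : ℂ) ≠ 0 := by exact_mod_cast (by omega : a ≠ 0)
    have hb0 : (b : ℂ) ≠ 0 := by exact_mod_cast (by omega : b ≠ 0)
    have hc0 : (c : ℂ) ≠ 0 := by exact_mod_cast (by omega : c ≠ 0)
    field_simp at hsum2
    have h2 : ((3 * N.index : ℤ) * (a * b * c + b * c + ε * (a * c) - a * b) : ℂ) = 8 * (a * b * c) := by
      push_cast
      linear_combination -hsum2
    exact_mod_cast h2
  -- index of N at least 5
  have hNtop : N ≠ ⊤ := by
    intro h
    have hVn : V.Normal := normalizer_eq_top_iff.1 h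
    rcases hVn.eq_bot_or_eq_top with h' | h'
    · rw [h', Subgroup.card_bot] at hV4; omega
    · exact hna (fun a b => H5.KleinSylow.comm hK (h' ▸ mem_top a) (h' ▸ mem_top b))
  have hnc : ¬ IsMulCommutative G := fun h => hna (fun a b => h.is_comm.comm a b)
  have hdvd := H21.SimpleBasic.two_mul_card_dvd_factorial_index hnc N hNtop
  have h12 : 12 ∣ Nat.card N := by
    have h1 : Nat.card (centralizer ({x} : Set G)) * 3 = Nat.card N := by
      rw [← relIndex_three hx hle hK hodd hn hall, ← hNdef, relIndex,
        ← Subgroup.card_mul_index ((centralizer ({x} : Set G)).subgroupOf N)]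
      congr 1
      exact Nat.card_congr (Subgroup.subgroupOfEquivOfLe hCN).symm.toEquiv
    have h2 : 4 ∣ Nat.card (centralizer ({x} : Set G)) := hV4 ▸ Subgroup.card_dvd_of_le hle
    rw [← h1]
    exact Nat.mul_dvd_mul h2 (dvd_refl 3)
  obtain ⟨d, hd⟩ := h12
  have hcard : Nat.card G = 12 * d * N.index := by
    rw [← hd, Subgroup.card_mul_index]
  rw [hcard] at hdvd
  have hd0 : 0 < d := by
    rcases Nat.eq_zero_or_pos d with h | h
    · rw [h, mul_zero] at hd
      exact absurd hd Nat.card_pos.ne'
    · exact h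
  have hdd : ∀ m, 2 * (12 * d * m) ∣ m.factorial → 24 * m ∣ m.factorial := fun m hm =>
    (Dvd.intro_left d (by ring)).trans hm
  have h24 := hdd _ hdvd
  have hi0 : N.index ≠ 0 := N.index_ne_zero_of_finite
  have hi3 : 3 ≤ N.index := by
    by_contra hcon
    have : N.index = 1 ∨ N.index = 2 := by omega
    rcases this with h | h <;> rw [h] at h24 <;> revert h24 <;> decide
  have hi5 := arith hi3 ha3 hb3 hc3 hε hdeg heq
  have hi : N.index = 5 := by
    have : N.index = 3 ∨ N.index = 4 ∨ N.index = 5 := by omega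
    rcases this with h | h | h
    · rw [h] at h24; exact absurd h24 (by decide)
    · rw [h] at h24; exact absurd h24 (by decide)
    · exact h
  obtain ⟨f, hf⟩ : ∃ f : G →* ↥(alternatingGroup (Fin 5)), Function.Injective f :=
    hi ▸ H21.SimpleBasic.embeds_alternating hnc N hNtop
  have hA : Nat.card (alternatingGroup (Fin 5)) = 60 := by
    have h3 := nat_card_alternatingGroup (α := Fin 5)
    rw [h3, Nat.card_eq_fintype_card, Fintype.card_fin]
    decide
  have hle' : Nat.card (alternatingGroup (Fin 5)) ≤ Nat.card G := by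
    rw [hA, hcard, hi]; omega
  exact ⟨MulEquiv.ofBijective f ((Nat.bijective_iff_injective_and_card f).2
    ⟨hf, le_antisymm (Nat.card_le_card_of_injective f hf) hle'⟩)⟩

end H59.KleinN
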