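import Cfsg.Agent.Lib.H59.BSW9

set_option autoImplicit false

/-! Brauer--Suzuki--Wall situation: the case `|K| = 4`, characters, extended statement. -/

namespace H59.BSW

open Cfsg H18.CharBasic H18.CharOrtho H18.CharInd
open scoped ComplexConjugate

universe u

variable {G : Type u} [Group G] [Fintype G] {t s : G} {K : Subgroup G}

theorem exc_four_ext (h : Data t s K) (hm : Nat.card K = 4) :
    ∃ (ε : ℤ) (Ψ Θ X Y : IrrCharacter G), (ε = 1 ∨ ε = -1) ∧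
      (Ψ : G → ℂ) 1 = 8 + ε ∧ (Θ : G → ℂ) 1 = 8 + 2 * ε ∧ (X : G → ℂ) 1 = 4 + ε ∧
      (Y : G → ℂ) 1 = 4 + ε ∧ (Nat.card G : ℤ) = 8 * ((8 + ε) * (4 + ε)) ∧
      ∀ ψ : IrrCharacter G, (ψ : G → ℂ) ≠ (fun _ => 1) → ψ ≠ Ψ → ψ ≠ Θ → ψ ≠ X → ψ ≠ Y →
        (ψ : G → ℂ) t = 0 := by
  classical
  have := Fintype.ofFinite (IrrCharacter G)
  obtain ⟨k, hk, hk1, hkt⟩ := exists_k h hm
  have ht1 : (⟨t, h.tK⟩ : K) ≠ 1 := fun h1 => h.t1 (congrArg Subtype.val h1)
  obtain ⟨l, hl⟩ := exists_hom h ht1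
  have hlt := (hom_t h l).resolve_left hl
  have hneg : (1 : ℂˣ) ≠ -1 := by
    intro h1
    have h2 := congrArg Units.val h1
    norm_num at h2
  have hlk : l k * l k = -1 := by rw [← map_mul, ← sq, hk, hlt]
  have hl1 : l ≠ 1 := by
    rintro rfl
    exact hl rfl
  have hll1 : l * l ≠ 1 := by
    intro h1
    have h2 : l k * l k = 1 := DFunLike.congr_fun h1 k
    rw [hlk] at h2
    exact hneg h2.symm
  have hl2 : l ^ 2 ≠ 1 := by
    intro h1
    have h2 : (l k) ^ 2 = 1 := DFunLike.congr_fun h1 k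
    rw [sq, hlk] at h2
    exact hneg h2.symm
  have hllinv : l * l = (l * l)⁻¹ := by
    ext x
    congr 1
    show l x * l x = (l x * l x)⁻¹
    have h2 : x ^ 4 = 1 := by
      have := pow_card_eq_one' (x := x)
      rwa [hm] at this
    have h3 : (l x * l x) * (l x * l x) = 1 := by
      rw [← map_mul, ← map_mul]
      have : x * x * (x * x) = x ^ 4 := by simp only [pow_succ, pow_zero, one_mul, mul_assoc]
      rw [this, h2, map_one]
    exact eq_inv_of_mul_eq_one_left h3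
  have hlll : l ≠ l * l := by
    intro h1
    have h2 : l ⟨t, h.tK⟩ = l ⟨t, h.tK⟩ * l ⟨t, h.tK⟩ := DFunLike.congr_fun h1 _
    rw [hlt] at h2
    simp at h2
  obtain ⟨-, n1⟩ := norm_be (G := G) h hl2
  obtain ⟨Φ₁, Φ₂, hΦ, hbe, hdeg⟩ := exists_of_norm_two (be_gen (G := G) l) n1 (be_one l)
  have n2 := inner_be (G := G) h hll1 hll1
  rw [if_pos rfl, if_pos hllinv] at n2
  have n3 := inner_be (G := G) h hll1 hl1
  rw [if_neg (Ne.symm hlll), if_neg (by
    intro h1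
    rw [hllinv] at h1
    apply hlll
    ext x
    congr 1
    have h2 : (l x * l x)⁻¹ = (l x)⁻¹ := DFunLike.congr_fun h1 x
    exact (inv_injective h2).symm)] at n3
  obtain ⟨S, e, hScard, he, hbe2⟩ := H5.CharSmallNorm.exists_signed (be_gen (G := G) (l * l)) (n := 3)
    (by norm_num) (by rw [n2]; norm_num)
  have hin : ∀ ψ : IrrCharacter G, classInner (be (l * l)) (ψ : G → ℂ) = if ψ ∈ S then (e ψ : ℂ) else 0 := by
    intro ψ
    rw [hbe2]; exact inner_signed S e ψ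
  rw [hbe, H18.CharOrtho.inner_sub_right, hin, hin] at n3
  -- choose Ψ, Θ
  have hch : ∃ (ε : ℤ) (Ψ Θ : IrrCharacter G), (ε = 1 ∨ ε = -1) ∧
      be l = (ε : ℂ) • ((Ψ : G → ℂ) - (Θ : G → ℂ)) ∧ Ψ ≠ Θ ∧
      (Θ : G → ℂ) 1 = (Ψ : G → ℂ) 1 + ε ∧ Ψ ∈ S ∧ e Ψ = ε ∧ Θ ∉ S := by
    by_cases h1 : Φ₁ ∈ S <;> by_cases h2 : Φ₂ ∈ S
    · exfalso
      rw [if_pos h1, if_pos h2] at n3
      have n4 : (e Φ₁ - e Φ₂ : ℤ) = 1 := by
        have : ((e Φ₁ - e Φ₂ : ℤ) : ℂ) = ((1 : ℤ) : ℂ) := by push_cast; rw [n3]; norm_num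
        exact_mod_cast this
      rcases he Φ₁ with h3 | h3 <;> rcases he Φ₂ with h4 | h4 <;> rw [h3, h4] at n4 <;> norm_num at n4
    · rw [if_pos h1, if_neg h2] at n3
      have n4 : e Φ₁ = 1 := by
        have : ((e Φ₁ : ℤ) : ℂ) = ((1 : ℤ) : ℂ) := by
          linear_combination n3
        exact_mod_cast this
      refine ⟨1, Φ₁, Φ₂, Or.inl rfl, ?_, hΦ, ?_, h1, n4, h2⟩
      · rw [hbe]; simp
      · rw [hdeg]; simp
    · rw [if_neg h1, if_pos h2] at n3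
      have n4 : e Φ₂ = -1 := by
        have : ((e Φ₂ : ℤ) : ℂ) = ((-1 : ℤ) : ℂ) := by
          push_cast
          linear_combination -n3
        exact_mod_cast this
      refine ⟨-1, Φ₂, Φ₁, Or.inr rfl, ?_, hΦ.symm, ?_, h2, n4, h1⟩
      · rw [hbe]; simp
      · rw [hdeg]; push_cast; ring
    · exfalso
      rw [if_neg h1, if_neg h2] at n3
      norm_num at n3
  obtain ⟨ε, Ψ, Θ, hε, hbe', hΨΘ, hd, hΨS, heΨ, hΘS⟩ := hch
  have hεε : (ε : ℂ) * ε = 1 := by rcases hε with h | h <;> rw [h] <;> norm_num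
  have hε0 : (ε : ℂ) ≠ 0 := by rcases hε with h | h <;> rw [h] <;> norm_num
  have hes0 : ∀ ψ : IrrCharacter G, (e ψ : ℂ) ≠ 0 := by
    intro ψ
    rcases he ψ with h | h <;> rw [h] <;> norm_num
  -- nontriviality
  have i1 : classInner (be l) (fun _ : G => (1 : ℂ)) = 0 := by
    unfold be
    rw [H18.CharOrtho.inner_sub_left, inner_al_one hl1, inner_irr_self isIrrCharacter_one, sub_self]
  have i2 : classInner (be (l * l)) (fun _ : G => (1 : ℂ)) = 0 := by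
    unfold be
    rw [H18.CharOrtho.inner_sub_left, inner_al_one hll1, inner_irr_self isIrrCharacter_one, sub_self]
  have hSnt : ∀ ψ : IrrCharacter G, ψ ∈ S → (ψ : G → ℂ) ≠ fun _ => 1 := by
    intro ψ hψ h1
    have h2 := hin ψ
    rw [if_pos hψ, h1, i2] at h2
    exact hes0 ψ h2.symm
  have hinbe : ∀ ψ : IrrCharacter G, classInner (be l) (ψ : G → ℂ) =
      ε * ((if Ψ = ψ then 1 else 0) - (if Θ = ψ then 1 else 0)) := by
    intro ψ
    rw [hbe', H18.CharOrtho.inner_smul_left, H18.CharOrtho.inner_sub_left, inner_irr Ψ.2 ψ.2,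
      inner_irr Θ.2 ψ.2]
    simp only [← Subtype.ext_iff]
  have hΘnt : (Θ : G → ℂ) ≠ fun _ => 1 := by
    intro h1
    have h2 := hinbe Θ
    rw [h1, i1, if_neg hΨΘ, if_pos rfl] at h2
    apply hε0
    linear_combination h2
  have hval : ∀ ψ : IrrCharacter G, (ψ : G → ℂ) ≠ (fun _ => 1) →
      classInner (be l) (ψ : G → ℂ) = (conj ((ψ : G → ℂ) t) + conj ((ψ : G → ℂ) k)) / 2 ∧
      classInner (be (l * l)) (ψ : G → ℂ) = conj ((ψ : G → ℂ) k) := by
    intro ψ hψ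
    obtain ⟨w1, w2⟩ := vals_four h hm hk hk1 hkt hlt ψ.2
    have h1 : classInner (fun _ : G => (1 : ℂ)) (ψ : G → ℂ) = 0 :=
      inner_irr_ne isIrrCharacter_one ψ.2 (Ne.symm hψ)
    unfold be
    rw [H18.CharOrtho.inner_sub_left, H18.CharOrtho.inner_sub_left, h1, sub_zero, sub_zero]
    exact ⟨w1, w2⟩
  have conj_int : ∀ (z : ℂ) (a : ℤ), conj z = a → z = a := by
    intro z a hz
    rw [← Complex.conj_conj z, hz]; simp
  have hΨk : (Ψ : G → ℂ) k = ε := by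
    obtain ⟨w1, w2⟩ := hval Ψ (hSnt Ψ hΨS)
    rw [hin, if_pos hΨS, heΨ] at w2
    exact conj_int _ _ w2.symm
  have hΨt : (Ψ : G → ℂ) t = ε := by
    obtain ⟨w1, w2⟩ := hval Ψ (hSnt Ψ hΨS)
    rw [hinbe, if_pos rfl, if_neg hΨΘ.symm, hΨk] at w1
    apply conj_int
    have : conj (ε : ℂ) = ε := by simp
    rw [this] at w1
    linear_combination -2 * w1
  have hΘk : (Θ : G → ℂ) k = 0 := by
    obtain ⟨w1, w2⟩ := hval Θ hΘnt
    rw [hin, if_neg hΘS] at w2
    have := conj_int _ 0 (by rw [← w2]; simp)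
    simpa using this
  have hΘt : (Θ : G → ℂ) t = -2 * ε := by
    obtain ⟨w1, w2⟩ := hval Θ hΘnt
    rw [hinbe, if_pos rfl, if_neg hΨΘ, hΘk] at w1
    have := conj_int ((Θ : G → ℂ) t) (-2 * ε) (by
      push_cast
      simp only [map_zero] at w1
      linear_combination -2 * w1)
    rw [this]; push_cast; ring
  -- the two remaining characters
  have hcard2 : (S.erase Ψ).card = 2 := by rw [Finset.card_erase_of_mem hΨS, hScard]
  obtain ⟨X, Y, hXY, hSe⟩ := Finset.card_eq_two.1 hcard2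
  have hX : X ∈ S.erase Ψ := by rw [hSe]; simp
  have hY : Y ∈ S.erase Ψ := by rw [hSe]; simp
  obtain ⟨hXΨ, hXS⟩ := Finset.mem_erase.1 hX
  obtain ⟨hYΨ, hYS⟩ := Finset.mem_erase.1 hY
  have hbe3 : be (G := G) (l * l) = (ε : ℂ) • (Ψ : G → ℂ) + ((e X : ℂ) • (X : G → ℂ) + (e Y : ℂ) • (Y : G → ℂ)) := by
    rw [hbe2, ← Finset.add_sum_erase _ _ hΨS, hSe, Finset.sum_pair hXY, heΨ]
  have ht_of : ∀ Z : IrrCharacter G, Z ∈ S → Z ≠ Ψ → (Z : G → ℂ) t = -(e Z : ℂ) := by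
    intro Z hZS hZΨ
    have hZΘ : Z ≠ Θ := by rintro rfl; exact hΘS hZS
    obtain ⟨w1, w2⟩ := hval Z (hSnt Z hZS)
    rw [hin, if_pos hZS] at w2
    rw [hinbe, if_neg (Ne.symm hZΨ), if_neg (Ne.symm hZΘ), ← w2] at w1
    have := conj_int ((Z : G → ℂ) t) (-e Z) (by
      push_cast
      linear_combination -2 * w1)
    rw [this]; push_cast; ring
  have hXt := ht_of X hXS hXΨ
  have hYt := ht_of Y hYS hYΨ
  -- degrees
  obtain ⟨ψ, hψpos, hψ⟩ := exists_degree_pos Ψ.2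
  obtain ⟨θ, hθpos, hθ⟩ := exists_degree_pos Θ.2
  obtain ⟨x, hxpos, hx⟩ := exists_degree_pos X.2
  obtain ⟨y, hypos, hy⟩ := exists_degree_pos Y.2
  have hdeg1 : (θ : ℂ) = ψ + ε := by rw [← hθ, hd, hψ]
  have hdeg2 : (ε : ℂ) * ψ + (e X * x + e Y * y) = -1 := by
    have h1 := congrFun hbe3 1
    rw [be_one] at h1
    simp only [Pi.add_apply, Pi.smul_apply, smul_eq_mul, hψ, hx, hy] at h1
    exact h1.symm
  set n : ℕ := Nat.card {x : G // IsConj t x} with hn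
  have hGn : Nat.card G = 2 * 4 * n := by rw [card_G h, hm]
  have hnpos : 0 < n := Nat.card_pos_iff.2 ⟨⟨⟨t, IsConj.refl t⟩⟩, inferInstance⟩
  have hn0 : (n : ℂ) ≠ 0 := by exact_mod_cast hnpos.ne'
  have hGc : (Nat.card G : ℂ) = 8 * n := by rw [hGn]; push_cast; ring
  have f1 := Fn_al h hl1
  have f2 := Fn_al h hll1
  rw [al_eq_be, Fn_add, hbe', Fn_smul, Fn_sub, Fn_irr t isIrrCharacter_one, Fn_irr t Ψ.2,
    Fn_irr t Θ.2, hψ, hθ, ← hn, hm, hΨt, hΘt, hGc] at f1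
  rw [al_eq_be, Fn_add, hbe3, Fn_add, Fn_add, Fn_smul, Fn_smul, Fn_smul, Fn_irr t isIrrCharacter_one, Fn_irr t Ψ.2,
    Fn_irr t X.2, Fn_irr t Y.2, hψ, hx, hy, ← hn, hm, hΨt, hXt, hYt, hGc] at f2
  have hψ0 : (ψ : ℂ) ≠ 0 := by exact_mod_cast hψpos.ne'
  have hθ0 : (θ : ℂ) ≠ 0 := by exact_mod_cast hθpos.ne'
  have hx0 : (x : ℂ) ≠ 0 := by exact_mod_cast hxpos.ne'
  have hy0 : (y : ℂ) ≠ 0 := by exact_mod_cast hypos.ne'
  have hee : ∀ Z : IrrCharacter G, (e Z : ℂ) * e Z = 1 := by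
    intro Z; rcases he Z with h | h <;> rw [h] <;> norm_num
  have eX2 := hee X
  have eY2 := hee Y
  have g1 : (n : ℂ) * (1 + ε / ψ - 4 * ε / θ) = 32 := by
    have e1 : (n : ℂ) * n / (8 * n) = n / 8 := by field_simp
    rw [e1] at f1
    push_cast at f1
    have e2 : (1 : ℂ) ^ 2 / 1 + ε * (ε ^ 2 / ψ - (-2 * ε) ^ 2 / θ) = 1 + ε / ψ - 4 * ε / θ := by
      have e3 : (ε : ℂ) ^ 2 = 1 := by rw [sq, hεε]
      have e4 : (-2 * (ε : ℂ)) ^ 2 = 4 := by rw [mul_pow, e3]; norm_num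
      rw [e3, e4]; ring
    rw [e2] at f1
    linear_combination 8 * f1
  have g2 : (n : ℂ) * (1 + ε / ψ + (e X / x + e Y / y)) = 32 := by
    have e1 : (n : ℂ) * n / (8 * n) = n / 8 := by field_simp
    rw [e1] at f2
    push_cast at f2
    have e2 : (1 : ℂ) ^ 2 / 1 + (ε * (ε ^ 2 / ψ) + (e X * ((-(e X : ℂ)) ^ 2 / x) + e Y * ((-(e Y : ℂ)) ^ 2 / y))) =
        1 + ε / ψ + (e X / x + e Y / y) := by
      have e3 : (ε : ℂ) ^ 2 = 1 := by rw [sq, hεε]
      have e4 : (-(e X : ℂ)) ^ 2 = 1 := by rw [neg_sq, sq, eX2]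
      have e5 : (-(e Y : ℂ)) ^ 2 = 1 := by rw [neg_sq, sq, eY2]
      rw [e3, e4, e5]; ring
    rw [e2] at f2
    linear_combination 8 * f2
  have g3 : -4 * (ε : ℂ) * x * y = θ * (e X * y + e Y * x) := by
    have e1 := mul_left_cancel₀ hn0 (g1.trans g2.symm)
    have e2 : -4 * (ε : ℂ) / θ = e X / x + e Y / y := by linear_combination e1
    field_simp at e2
    linear_combination e2
  have g3' : -4 * ε * x * y = θ * (e X * y + e Y * x) := by exact_mod_cast g3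
  have hεεZ : ε * ε = 1 := by exact_mod_cast hεε
  have eX2Z : e X * e X = 1 := by exact_mod_cast eX2
  have eY2Z : e Y * e Y = 1 := by exact_mod_cast eY2
  have hdeg1Z : (θ : ℤ) = ψ + ε := by exact_mod_cast hdeg1
  have hdeg2Z : ε * ψ + (e X * x + e Y * y) = -1 := by exact_mod_cast hdeg2
  have g4 : e X * x + e Y * y = -ε * θ := by
    rw [hdeg1Z]; linear_combination hdeg2Z + hεεZ
  have g5 : 2 * (x : ℤ) * y = (e X * e Y) * (x ^ 2 + y ^ 2) := by
    have e1 : (θ : ℤ) = -ε * (e X * x + e Y * y) := by rw [g4]; linear_combination -(θ : ℤ) * hεεZ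
    have e2 : -4 * ε * x * y = (-ε * (e X * x + e Y * y)) * (e X * y + e Y * x) := by rw [← e1]; exact g3'
    have e3 : ε * (-4 * ε * x * y) = ε * ((-ε * (e X * x + e Y * y)) * (e X * y + e Y * x)) := by rw [e2]
    have e4 : 4 * (x : ℤ) * y = (e X * x + e Y * y) * (e X * y + e Y * x) := by
      linear_combination -e3 + (-4 * (x : ℤ) * y + (e X * x + e Y * y) * (e X * y + e Y * x)) * hεεZ
    linear_combination e4 + (x : ℤ) * y * eX2Z + (x : ℤ) * y * eY2Z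
  have hxZ : (0 : ℤ) < x := by exact_mod_cast hxpos
  have hyZ : (0 : ℤ) < y := by exact_mod_cast hypos
  have hθZ : (0 : ℤ) < θ := by exact_mod_cast hθpos
  have g6 : e X * e Y = 1 := by
    rcases he X with h1 | h1 <;> rcases he Y with h2 | h2 <;> rw [h1, h2] at g5 ⊢ <;> try norm_num
    · exfalso; nlinarith
    · exfalso; nlinarith
  have g7 : (x : ℤ) = y := by
    rw [g6] at g5
    have : ((x : ℤ) - y) ^ 2 = 0 := by linear_combination -g5
    have := pow_eq_zero_iff (two_ne_zero) |>.1 this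
    linarith
  have g8 : e X = e Y := by
    rcases he X with h1 | h1 <;> rcases he Y with h2 | h2 <;> rw [h1, h2] at g6 ⊢ <;> norm_num at g6
  have g9 : e X = -ε ∧ (θ : ℤ) = 2 * x := by
    rw [← g7, ← g8] at g4
    rcases he X with h1 | h1 <;> rcases hε with h2 | h2 <;> rw [h1, h2] at g4 ⊢
    · exfalso; nlinarith
    · constructor
      · norm_num
      · linarith
    · constructor
      · norm_num
      · linarith
    · exfalso; nlinarith
  have hθ2 : (θ : ℂ) = 2 * x := by exact_mod_cast g9.2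
  have hψ2 : (ψ : ℂ) = 2 * x - ε := by linear_combination -hdeg1 + hθ2
  have g10 : (n : ℂ) * (x - ε) ^ 2 = 16 * x * (2 * x - ε) := by
    rw [hθ2, hψ2] at g1
    rw [hψ2] at hψ0
    field_simp at g1
    linear_combination (1 / 4 : ℂ) * g1
  have g10' : (n : ℤ) * (x - ε) ^ 2 = 16 * x * (2 * x - ε) := by exact_mod_cast g10
  have hnodd : Odd (n : ℤ) := by rw [Int.odd_coe_nat]; exact odd_invol h
  have hfin := arith4 hε hnodd hxZ g10'
  have hxy : (y : ℂ) = x := by exact_mod_cast g7.symm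
  refine ⟨ε, Ψ, Θ, X, Y, hε, ?_, ?_, ?_, ?_, ?_, ?_⟩
  · rw [hψ, hψ2]
    rcases hfin with ⟨h1, h2, h3⟩ | ⟨h1, h2, h3⟩
    · have : (x : ℂ) = 5 := by exact_mod_cast h2
      rw [h1, this]; norm_num
    · have : (x : ℂ) = 3 := by exact_mod_cast h2
      rw [h1, this]; norm_num
  · rw [hθ, hθ2]
    rcases hfin with ⟨h1, h2, h3⟩ | ⟨h1, h2, h3⟩
    · have : (x : ℂ) = 5 := by exact_mod_cast h2
      rw [h1, this]; norm_num
    · have : (x : ℂ) = 3 := by exact_mod_cast h2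
      rw [h1, this]; norm_num
  · rw [hx]
    rcases hfin with ⟨h1, h2, h3⟩ | ⟨h1, h2, h3⟩
    · have : (x : ℂ) = 5 := by exact_mod_cast h2
      rw [h1, this]; norm_num
    · have : (x : ℂ) = 3 := by exact_mod_cast h2
      rw [h1, this]; norm_num
  · rw [hy, hxy]
    rcases hfin with ⟨h1, h2, h3⟩ | ⟨h1, h2, h3⟩
    · have : (x : ℂ) = 5 := by exact_mod_cast h2
      rw [h1, this]; norm_num
    · have : (x : ℂ) = 3 := by exact_mod_cast h2
      rw [h1, this]; norm_num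
  · rw [hGn]
    rcases hfin with ⟨h1, h2, h3⟩ | ⟨h1, h2, h3⟩
    · push_cast; rw [h1, h3]; norm_num
    · push_cast; rw [h1, h3]; norm_num
  · intro ψ' h1 h2 h3 h4 h5
    have h6 : ψ' ∉ S := by
      intro h7
      have h8 : ψ' ∈ S.erase Ψ := Finset.mem_erase.2 ⟨h2, h7⟩
      rw [hSe] at h8
      rcases Finset.mem_insert.1 h8 with h9 | h9
      · exact h4 h9
      · exact h5 (Finset.mem_singleton.1 h9)
    obtain ⟨w1, w2⟩ := hval ψ' h1
    rw [hin, if_neg h6] at w2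
    rw [hinbe, if_neg (Ne.symm h2), if_neg (Ne.symm h3), ← w2] at w1
    have := conj_int ((ψ' : G → ℂ) t) 0 (by
      push_cast
      linear_combination -2 * w1)
    simpa using this

end H59.BSW
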