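import Cfsg.Agent.Lib.H59.D8b
import Cfsg.Agent.Lib.H21.PSLSeven

set_option autoImplicit false

/-! The centraliser of an involution of `A₆`. -/

namespace H59.AltSixCent

open Cfsg H59.BSW Equiv

/-- the central involution of a dihedral group of order eight. -/
theorem central_unique {C : Type*} [Group C] [Finite C] {k s z : C} (hs2 : orderOf s = 2)
    (hk4 : orderOf k = 4) (hsk : s * k * s⁻¹ = k⁻¹) (hsK : s ∉ Subgroup.zpowers k)
    (hcard : Nat.card C = 8) (hz : ∀ c, c * z = z * c) (hz2 : orderOf z = 2) : z = k * k := by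
  have hss : s * s = 1 := mul_self_of hs2
  have hinv : ∀ x ∈ Subgroup.zpowers k, s * x * s⁻¹ = x⁻¹ := by
    intro x hx
    rw [Subgroup.mem_zpowers_iff] at hx
    obtain ⟨i, rfl⟩ := hx
    rw [← conj_zpow, hsk, inv_zpow]
  have hcommK : ∀ x ∈ Subgroup.zpowers k, ∀ y ∈ Subgroup.zpowers k, x * y = y * x := by
    intro x hx y hy
    rw [Subgroup.mem_zpowers_iff] at hx hy
    obtain ⟨i, rfl⟩ := hx
    obtain ⟨j, rfl⟩ := hy
    rw [← zpow_add, ← zpow_add, add_comm]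
  have hk44 : k * k * (k * k) = 1 := by
    have := pow_orderOf_eq_one k
    rw [hk4] at this
    rw [← this]
    simp only [pow_succ, pow_zero, one_mul, mul_assoc]
  have hkk1 : k * k ≠ 1 := by
    intro h
    have := orderOf_dvd_of_pow_eq_one (x := k) (n := 2) (by rw [sq, h])
    rw [hk4] at this
    norm_num at this
  have hD : dih (Subgroup.zpowers k) s hs2 hinv = ⊤ := by
    apply Subgroup.eq_top_of_card_eq
    rw [hcard]
    have h1 : Subgroup.zpowers k ≤ dih (Subgroup.zpowers k) s hs2 hinv := fun x hx => Or.inl hx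
    have h2 := Subgroup.card_dvd_of_le h1
    have h3 := Subgroup.card_subgroup_dvd_card (dih (Subgroup.zpowers k) s hs2 hinv)
    rw [Nat.card_zpowers, hk4] at h2
    rw [hcard] at h3
    have h4 : Nat.card (Subgroup.zpowers k) < Nat.card (dih (Subgroup.zpowers k) s hs2 hinv) := by
      rcases lt_or_eq_of_le (Subgroup.card_le_of_le h1) with h5 | h5
      · exact h5
      · exfalso
        have h6 := Subgroup.eq_of_le_of_card_ge h1 (le_of_eq h5.symm)
        apply hsK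
        rw [h6]
        right; rw [hss]; exact Subgroup.one_mem _
    rw [Nat.card_zpowers, hk4] at h4
    have h5 := Nat.le_of_dvd (by norm_num) h3
    obtain ⟨c, hc⟩ := h2
    omega
  have hzD : z ∈ dih (Subgroup.zpowers k) s hs2 hinv := by rw [hD]; exact Subgroup.mem_top z
  have hzz : z * z = 1 := mul_self_of hz2
  have hz1 : z ≠ 1 := by rintro rfl; simp at hz2
  rcases hzD with h1 | h1
  · rcases (H59.D8.mem_zpowers_four (t := k * k) rfl hk44).1 h1 with h2 | h2 | h2 | h2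
    · exact absurd h2 hz1
    · exact h2
    · exfalso; rw [h2] at hzz; exact hkk1 hzz
    · exfalso
      rw [h2] at hzz
      apply hkk1
      calc k * k = (k * k * (k * k)) * (k * k) := by rw [hk44, one_mul]
        _ = k * (k * k) * (k * (k * k)) := by group
        _ = 1 := hzz
  · exfalso
    have h2 : z * k * z⁻¹ = k⁻¹ := by
      have h3 : z = s * (s * z) := by rw [← mul_assoc, hss, one_mul]
      have h4 := hcommK _ h1 k (Subgroup.mem_zpowers k)
      calc z * k * z⁻¹ = (s * (s * z)) * k * (s * (s * z))⁻¹ := by rw [← h3]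
        _ = s * ((s * z) * k * (s * z)⁻¹) * s⁻¹ := by group
        _ = s * (k * (s * z) * (s * z)⁻¹) * s⁻¹ := by rw [h4]
        _ = s * k * s⁻¹ := by group
        _ = k⁻¹ := hsk
    rw [← hz k, mul_assoc, mul_inv_cancel, mul_one] at h2
    apply hkk1
    nth_rewrite 1 [h2]
    rw [inv_mul_cancel]

/-- the base involution -/
def α₀ : Perm (Fin 6) := swap 0 1 * swap 2 3
/-- an element of order four squaring to it -/
def k₀ : Perm (Fin 6) := swap 0 2 * swap 1 2 * swap 1 3 * swap 4 5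
/-- an involution inverting it -/
def s₀ : Perm (Fin 6) := swap 0 1 * swap 4 5

theorem facts : k₀ * k₀ = α₀ ∧ s₀ * s₀ = 1 ∧ s₀ * k₀ * s₀⁻¹ = k₀⁻¹ ∧ s₀ ≠ 1 ∧ α₀ ≠ 1 ∧ s₀ ≠ k₀ ∧
    s₀ ≠ k₀ * α₀ ∧ s₀ ≠ α₀ ∧ Perm.sign k₀ = 1 ∧ Perm.sign s₀ = 1 ∧ α₀ * α₀ = 1 ∧
    swap 4 5 * α₀ = α₀ * swap 4 5 ∧ Perm.sign α₀ = 1 ∧ α₀.support.card = 4 := by
  decide +kernel

theorem cycleType_of {σ : Perm (Fin 6)} (h2 : orderOf σ = 2) (h4 : σ.support.card = 4) :
    σ.cycleType = {2, 2} := by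
  obtain ⟨n, hn⟩ := Perm.cycleType_prime_order (σ := σ) (by rw [h2]; exact Nat.prime_two)
  have h1 := Perm.sum_cycleType σ
  rw [hn, h2, h4, Multiset.sum_replicate, smul_eq_mul] at h1
  have h3 : n = 1 := by omega
  rw [hn, h2, h3]
  rfl

theorem card_cent {αt : ↥(alternatingGroup (Fin 6))} (hαt : orderOf αt = 2)
    (hsupp : (αt : Perm (Fin 6)).support.card = 4) :
    Nat.card ↥(Subgroup.centralizer ({αt} : Set ↥(alternatingGroup (Fin 6)))) = 8 ∧
    ∃ τ : Perm (Fin 6), τ * α₀ * τ⁻¹ = αt := by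
  obtain ⟨f1, f2, f3, f4, f5, f6, f7, f8, f9, f10, f11, f12, f13, f14⟩ := facts
  have ho : orderOf (αt : Perm (Fin 6)) = 2 := by rw [Subgroup.orderOf_coe, hαt]
  have hct := cycleType_of ho hsupp
  have hct0 := cycleType_of (σ := α₀) (orderOf_eq_prime (by rw [sq, f11]) f5) f14
  obtain ⟨τ, hτ⟩ := isConj_iff.1 (Perm.isConj_iff_cycleType_eq.2 (hct0.trans hct.symm))
  refine ⟨?_, τ, hτ⟩
  set C6 := Subgroup.centralizer ({(αt : Perm (Fin 6))} : Set (Perm (Fin 6))) with hC6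
  have h16 : Nat.card C6 = 16 := by
    rw [hC6, Perm.nat_card_centralizer, hct]
    decide
  -- the odd element
  have hodd : τ * swap 4 5 * τ⁻¹ ∈ C6 := by
    rw [hC6, Subgroup.mem_centralizer_singleton_iff, ← hτ]
    calc τ * swap 4 5 * τ⁻¹ * (τ * α₀ * τ⁻¹) = τ * (swap 4 5 * α₀) * τ⁻¹ := by group
      _ = τ * (α₀ * swap 4 5) * τ⁻¹ := by rw [f12]
      _ = _ := by group
  have hnot : ¬ C6 ≤ alternatingGroup (Fin 6) := by
    intro h
    have h1 := h hodd
    rw [Perm.mem_alternatingGroup] at h1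
    rw [map_mul, map_mul, map_inv, mul_comm (Perm.sign τ), mul_assoc, mul_inv_cancel, mul_one,
      Perm.sign_swap (by decide)] at h1
    exact absurd h1 (by decide)
  have hAn : (alternatingGroup (Fin 6)).Normal := inferInstance
  have hdvd : (alternatingGroup (Fin 6)).relIndex C6 ∣ (alternatingGroup (Fin 6)).index :=
    Subgroup.relIndex_dvd_index_of_normal _ C6
  have hAi : (alternatingGroup (Fin 6)).index = 2 := alternatingGroup.index_eq_two
  rw [hAi] at hdvd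
  have hne : (alternatingGroup (Fin 6)).relIndex C6 ≠ 1 := by
    rw [Ne, Subgroup.relIndex_eq_one]
    exact hnot
  have h2 : (alternatingGroup (Fin 6)).relIndex C6 = 2 := (Nat.dvd_prime Nat.prime_two).1 hdvd |>.resolve_left hne
  have h3 := Subgroup.card_mul_index ((alternatingGroup (Fin 6)).subgroupOf C6)
  have h4 : ((alternatingGroup (Fin 6)).subgroupOf C6).index = 2 := h2
  rw [h4, h16] at h3
  have h5 : Nat.card ((alternatingGroup (Fin 6)).subgroupOf C6) = 8 := by omega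
  rw [← h5]
  apply Nat.card_congr
  refine ⟨fun c => ⟨⟨((c : ↥(alternatingGroup (Fin 6))) : Perm (Fin 6)), ?_⟩, ?_⟩, fun c => ⟨⟨((c : C6) : Perm (Fin 6)), ?_⟩, ?_⟩, ?_, ?_⟩
  · have := Subgroup.mem_centralizer_singleton_iff.1 c.2
    rw [hC6, Subgroup.mem_centralizer_singleton_iff]
    exact congrArg Subtype.val this
  · exact (c : ↥(alternatingGroup (Fin 6))).2
  · exact c.2
  · rw [Subgroup.mem_centralizer_singleton_iff]
    apply Subtype.ext
    exact Subgroup.mem_centralizer_singleton_iff.1 (c : C6).2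
  · intro c; rfl
  · intro c; rfl

theorem main {G : Type*} [Group G] [Finite G]
    (hG : ∀ H : Subgroup G, H.index ≠ 2)
    (αt : ↥(alternatingGroup (Fin 6))) (hαt : orderOf αt = 2) (hsupp : (αt : Equiv.Perm (Fin 6)).support.card = 4)
    (α : G) (hα : orderOf α = 2)
    (e : ↥(Subgroup.centralizer ({α} : Set G)) ≃* ↥(Subgroup.centralizer ({αt} : Set ↥(alternatingGroup (Fin 6))))) :
    Nonempty (G ≃* ↥(alternatingGroup (Fin 6))) ∨
      (∃ (F : Type) (_ : Field F) (_ : Fintype F), Fintype.card F = 7 ∧ Nonempty (G ≃* Matrix.ProjectiveSpecialLinearGroup (Fin 2) F)) := by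
  classical
  obtain ⟨f1, f2, f3, f4, f5, f6, f7, f8, f9, f10, f11, f12, f13, f14⟩ := facts
  obtain ⟨h8, τ, hτ⟩ := card_cent hαt hsupp
  set C' := Subgroup.centralizer ({αt} : Set ↥(alternatingGroup (Fin 6))) with hC'
  set C := Subgroup.centralizer ({α} : Set G) with hC
  have hcomm : ∀ x : Perm (Fin 6), x * α₀ = α₀ * x → τ * x * τ⁻¹ * αt = αt * (τ * x * τ⁻¹) := by
    intro x hx
    rw [← hτ]
    calc τ * x * τ⁻¹ * (τ * α₀ * τ⁻¹) = τ * (x * α₀) * τ⁻¹ := by group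
      _ = τ * (α₀ * x) * τ⁻¹ := by rw [hx]
      _ = _ := by group
  have hkc : k₀ * α₀ = α₀ * k₀ := by rw [← f1, mul_assoc]
  have hsc : s₀ * α₀ = α₀ * s₀ := by
    have h1 : s₀ * (k₀ * k₀) * s₀⁻¹ = (k₀ * k₀)⁻¹ := by
      calc s₀ * (k₀ * k₀) * s₀⁻¹ = (s₀ * k₀ * s₀⁻¹) * (s₀ * k₀ * s₀⁻¹) := by group
        _ = k₀⁻¹ * k₀⁻¹ := by rw [f3]
        _ = _ := by group
    rw [f1, inv_eq_of_mul_eq_one_left f11] at h1
    exact mul_inv_eq_iff_eq_mul.1 h1
  have hsgn : ∀ x : Perm (Fin 6), Perm.sign x = 1 → τ * x * τ⁻¹ ∈ alternatingGroup (Fin 6) := by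
    intro x hx
    rw [Perm.mem_alternatingGroup, map_mul, map_mul, map_inv, hx, mul_one, mul_inv_cancel]
  let k₁ : ↥(alternatingGroup (Fin 6)) := ⟨τ * k₀ * τ⁻¹, hsgn _ f9⟩
  let s₁ : ↥(alternatingGroup (Fin 6)) := ⟨τ * s₀ * τ⁻¹, hsgn _ f10⟩
  let k₂ : C' := ⟨k₁, Subgroup.mem_centralizer_singleton_iff.2 (Subtype.ext (hcomm _ hkc))⟩
  let s₂ : C' := ⟨s₁, Subgroup.mem_centralizer_singleton_iff.2 (Subtype.ext (hcomm _ hsc))⟩
  let a₂ : C' := ⟨αt, Subgroup.mem_centralizer_singleton_iff.2 rfl⟩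
  have val_inj : ∀ x y : C', (((x : ↥(alternatingGroup (Fin 6)))) : Perm (Fin 6)) = ((y : ↥(alternatingGroup (Fin 6))) : Perm (Fin 6)) → x = y :=
    fun x y h => Subtype.ext (Subtype.ext h)
  have conj_inj : ∀ x y : Perm (Fin 6), τ * x * τ⁻¹ = τ * y * τ⁻¹ → x = y := by
    intro x y h
    exact mul_left_cancel (mul_right_cancel h)
  have g1 : k₂ * k₂ = a₂ := by
    apply val_inj
    show τ * k₀ * τ⁻¹ * (τ * k₀ * τ⁻¹) = αt
    rw [← hτ, ← f1]; group
  have g2 : s₂ * s₂ = 1 := by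
    apply val_inj
    show τ * s₀ * τ⁻¹ * (τ * s₀ * τ⁻¹) = 1
    have : τ * s₀ * τ⁻¹ * (τ * s₀ * τ⁻¹) = τ * (s₀ * s₀) * τ⁻¹ := by group
    rw [this, f2]; group
  have g3 : s₂ * k₂ * s₂⁻¹ = k₂⁻¹ := by
    apply val_inj
    show τ * s₀ * τ⁻¹ * (τ * k₀ * τ⁻¹) * (τ * s₀ * τ⁻¹)⁻¹ = (τ * k₀ * τ⁻¹)⁻¹
    have : τ * s₀ * τ⁻¹ * (τ * k₀ * τ⁻¹) * (τ * s₀ * τ⁻¹)⁻¹ = τ * (s₀ * k₀ * s₀⁻¹) * τ⁻¹ := by group
    rw [this, f3]; group
  have g4 : s₂ ≠ 1 := by
    intro h
    apply f4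
    apply conj_inj
    have h1 := congrArg (fun x : C' => ((x : ↥(alternatingGroup (Fin 6))) : Perm (Fin 6))) h
    have h2 : τ * s₀ * τ⁻¹ = 1 := h1
    rw [h2]; group
  have ga : a₂ * a₂ = 1 := by
    apply val_inj
    show (αt : Perm (Fin 6)) * αt = 1
    rw [← hτ]
    have : τ * α₀ * τ⁻¹ * (τ * α₀ * τ⁻¹) = τ * (α₀ * α₀) * τ⁻¹ := by group
    rw [this, f11]; group
  have ga1 : orderOf a₂ = 2 := by
    apply orderOf_of ga
    intro h
    have h1 : αt = 1 := congrArg Subtype.val h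
    rw [h1] at hαt; simp at hαt
  have g5 : s₂ ∉ Subgroup.zpowers k₂ := by
    rw [H59.D8.mem_zpowers_four g1 ga]
    rintro (h | h | h | h)
    · exact g4 h
    · apply f8
      apply conj_inj
      have h1 := congrArg (fun x : C' => ((x : ↥(alternatingGroup (Fin 6))) : Perm (Fin 6))) h
      have h2 : τ * s₀ * τ⁻¹ = αt := h1
      rw [h2, hτ]
    · apply f6
      apply conj_inj
      exact congrArg (fun x : C' => ((x : ↥(alternatingGroup (Fin 6))) : Perm (Fin 6))) h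
    · apply f7
      apply conj_inj
      have h1 := congrArg (fun x : C' => ((x : ↥(alternatingGroup (Fin 6))) : Perm (Fin 6))) h
      have h2 : τ * s₀ * τ⁻¹ = τ * k₀ * τ⁻¹ * αt := h1
      rw [h2, ← hτ]; group
  have hk4 : orderOf k₂ = 4 := H59.D8.orderOf_four g1 ga1
  have hs2 : orderOf s₂ = 2 := orderOf_of g2 g4
  -- the image of `α`
  have hαC : α ∈ C := Subgroup.mem_centralizer_singleton_iff.2 rfl
  have hz : e ⟨α, hαC⟩ = k₂ * k₂ := by
    apply central_unique hs2 hk4 g3 g5 h8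
    · intro c
      obtain ⟨x, rfl⟩ := e.surjective c
      rw [← map_mul, ← map_mul]
      congr 1
      exact Subtype.ext (Subgroup.mem_centralizer_singleton_iff.1 x.2)
    · rw [MulEquiv.orderOf_eq, Subgroup.orderOf_mk, hα]
  have hkα : ((e.symm k₂ : C) : G) * ((e.symm k₂ : C) : G) = α := by
    rw [← Subgroup.coe_mul, ← map_mul, ← hz, MulEquiv.symm_apply_apply]
  have hs : orderOf ((e.symm s₂ : C) : G) = 2 := by
    rw [Subgroup.orderOf_coe, MulEquiv.orderOf_eq, hs2]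
  have hsk : ((e.symm s₂ : C) : G) * ((e.symm k₂ : C) : G) * ((e.symm s₂ : C) : G)⁻¹ = ((e.symm k₂ : C) : G)⁻¹ := by
    rw [← Subgroup.coe_inv, ← Subgroup.coe_inv, ← Subgroup.coe_mul, ← Subgroup.coe_mul, ← map_inv,
      ← map_inv, ← map_mul, ← map_mul, g3]
  have hsK : ((e.symm s₂ : C) : G) ∉ Subgroup.zpowers ((e.symm k₂ : C) : G) := by
    intro h
    rw [Subgroup.mem_zpowers_iff] at h
    obtain ⟨i, hi⟩ := h
    apply g5
    rw [Subgroup.mem_zpowers_iff]
    refine ⟨i, ?_⟩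
    apply e.symm.injective
    rw [map_zpow]
    exact Subtype.ext hi
  have hcard : Nat.card C = 8 := by rw [Nat.card_congr e.toEquiv, h8]
  obtain ⟨hD, hK⟩ := H59.D8.data_of_D8 hG hα hkα hs hsk hsK hcard
  have hsimple := H59.D8.simple_of_data hD hK
  rcases H59.D8.card_of_D8 hG hα hkα hs hsk hsK hcard with hc | hc
  · right
    have : Fact (Nat.Prime 7) := ⟨by norm_num⟩
    refine ⟨ZMod 7, inferInstance, inferInstance, ZMod.card 7, ?_⟩
    exact H21.PSLSeven.psl_seven hc (ZMod.card 7)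
  · left
    exact H59.D8.alt6_of_data hD hK hc

end H59.AltSixCent
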