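import Cfsg.Agent.Lib.H39.DA0

/-!
# S3219, piece BA2: centralizer and degree of a normal subgroup
-/

set_option autoImplicit false
set_option linter.unusedVariables false
set_option linter.unusedSectionVars false
set_option linter.style.haveILetI false

namespace H59.BA2

open Subgroup

theorem cent_bot {G : Type*} [Group G] [Finite G] (R : Subgroup G) [R.Normal]
    (hO : ∀ N : Subgroup G, N.Normal → Odd (Nat.card N) → N = ⊥)
    (hinv : ∀ s : G, s * s = 1 → s ≠ 1 → s ∈ R)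
    (hz : R ⊓ centralizer (R : Set G) = ⊥) : centralizer (R : Set G) = ⊥ := by
  have f2 : Fact (Nat.Prime 2) := ⟨Nat.prime_two⟩
  apply hO _ inferInstance
  rw [← Nat.not_even_iff_odd, even_iff_two_dvd]
  intro h2
  obtain ⟨⟨x, hxC⟩, hx⟩ := exists_prime_orderOf_dvd_card' 2 h2
  rw [Subgroup.orderOf_mk] at hx
  have hx1 : x ≠ 1 := by
    rintro rfl
    rw [orderOf_one] at hx
    omega
  have hx2 : x * x = 1 := by rw [← pow_two, ← hx]; exact pow_orderOf_eq_one x
  have h3 : x ∈ R ⊓ centralizer (R : Set G) := ⟨hinv x hx2 hx1, hxC⟩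
  rw [hz, mem_bot] at h3
  exact hx1 h3

theorem normal_trans {G Ω : Type*} [Group G] [MulAction G Ω] (h : H39.DA.TT G Ω)
    (R : Subgroup G) (hRn : R.Normal) (hR : R ≠ ⊥) (x y : Ω) : ∃ r ∈ R, r • x = y := by
  by_cases hxy : x = y
  · exact ⟨1, R.one_mem, by rw [one_smul, hxy]⟩
  obtain ⟨r, hr, x0, hrx⟩ : ∃ r ∈ R, ∃ x0 : Ω, r • x0 ≠ x0 := by
    by_contra hcon
    push Not at hcon
    exact hR ((Subgroup.eq_bot_iff_forall _).2 fun r hr => h.faith r (hcon r hr))
  obtain ⟨g, hg1, hg2⟩ := h.tr x0 (r • x0) x y (Ne.symm hrx) hxy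
  refine ⟨g * r * g⁻¹, hRn.conj_mem r hr g, ?_⟩
  rw [← hg1, ← hg2, smul_smul, smul_smul]
  congr 1
  group

theorem dvd_card {G Ω : Type*} [Group G] [Finite G] [MulAction G Ω] [Finite Ω] (h : H39.DA.TT G Ω)
    (R : Subgroup G) (hRn : R.Normal) (hR : R ≠ ⊥) : Nat.card Ω ∣ Nat.card R := by
  obtain ⟨a, b, hab⟩ := h.two
  haveI : MulAction.IsPretransitive R Ω := ⟨fun x y => by
    obtain ⟨r, hr, hrx⟩ := normal_trans h R hRn hR x y
    exact ⟨⟨r, hr⟩, hrx⟩⟩
  rw [← MulAction.index_stabilizer_of_transitive R a]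
  exact Subgroup.index_dvd_card _

end H59.BA2
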