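import Cfsg.Agent.Lib.H59.DBA2n
import Cfsg.Agent.Lib.H59.DBA2p
import Cfsg.Agent.Lib.H59.BA2r
import Cfsg.Agent.Lib.H59.BA2s
import Cfsg.Agent.Lib.H28.PslD8
import Cfsg.Agent.Lib.H21.BA2d
import Cfsg.Agent.Lib.H1.Cores
import Cfsg.Agent.S0483

/-!
# S3219, piece BA2: the endgame
-/

set_option autoImplicit false
set_option linter.unusedVariables false
set_option linter.unusedSectionVars false
set_option linter.style.haveILetI false

namespace H59.BA2

open Cfsg Subgroup

universe u v

theorem d8_nc {S : Type*} [Group S] (e : S ≃* DihedralGroup 4) (h : ∀ a b : S, a * b = b * a) : False := by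
  have h1 : ∀ x y : DihedralGroup 4, x * y = y * x := by
    intro x y
    have := congrArg e (h (e.symm x) (e.symm y))
    simpa using this
  have h2 := h1 (DihedralGroup.r 1) (DihedralGroup.sr 0)
  revert h2
  decide

theorem core {G : Type u} {Ω : Type v} [Group G] [Finite G] [MulAction G Ω] [Finite Ω] (h : H39.DA.TT G Ω)
    {f : ℕ} (hf : f % 4 = 3) (hn : Nat.card Ω = f * (2 * f - 1))
    (hG : Nat.card G = 12 * (Nat.card Ω * (Nat.card Ω - 1)))
    (hO : ∀ N : Subgroup G, N.Normal → Odd (Nat.card N) → N = ⊥) {t : G} (ht : t * t = 1) (ht1 : t ≠ 1)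
    (hconj : ∀ s : G, s * s = 1 → s ≠ 1 → IsConj t s) {V : Subgroup G} (hV : Nat.card V = 4)
    (hV2 : ∀ v ∈ V, v * v = 1) (htV : t ∈ V)
    (hNV : centralizer ({t} : Set G) ≤ normalizer (V : Set G)) {r s : G} (hr : orderOf r = 4) (hs : s * s = 1)
    (hs1 : s ≠ 1) (hsr : s * r * s⁻¹ = r⁻¹) : Nat.card Ω = 15 ∧ Nonempty (G ≃* alternatingGroup (Fin 7)) := by
  classical
  have f2 : Fact (Nat.Prime 2) := ⟨Nat.prime_two⟩
  obtain ⟨k, hk⟩ : ∃ k, f = 4 * k + 3 := ⟨f / 4, by omega⟩
  have hn' : Nat.card Ω = 2 * (16 * k ^ 2 + 22 * k + 7) + 1 := by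
    rw [hn, hk]
    have : 2 * (4 * k + 3) - 1 = 8 * k + 5 := by omega
    rw [this]; ring
  have hodd : Odd (Nat.card Ω) := ⟨_, hn'⟩
  have hG' : Nat.card G = 8 * (2 * (3 * (8 * k ^ 2 + 11 * k + 3) * Nat.card Ω + (3 * Nat.card Ω - 1) / 2) + 1) := by
    have e1 : Nat.card Ω - 1 = 2 * (2 * (8 * k ^ 2 + 11 * k + 3) + 1) := by rw [hn']; ring_nf; omega
    have e2 : 2 * ((3 * Nat.card Ω - 1) / 2) + 1 = 3 * Nat.card Ω := by
      obtain ⟨c, hc⟩ := hodd
      omega
    rw [hG, e1]
    have e3 : 2 * (3 * (8 * k ^ 2 + 11 * k + 3) * Nat.card Ω + (3 * Nat.card Ω - 1) / 2) + 1 =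
        6 * ((8 * k ^ 2 + 11 * k + 3) * Nat.card Ω) + (2 * ((3 * Nat.card Ω - 1) / 2) + 1) := by ring
    rw [e3, e2]; ring
  have h16 : ¬ 16 ∣ Nat.card G := by
    intro hd
    obtain ⟨c, hc⟩ := hd
    omega
  have hns := not_solvable h hodd hO
  obtain ⟨R, hRn, hR1, hRp⟩ := exists_perfect hns
  -- involutions are in R
  have hRe : 2 ∣ Nat.card R := by
    rw [← even_iff_two_dvd, ← Nat.not_odd_iff_even]
    intro ho
    exact hR1 (hO R hRn ho)
  have hinv : ∀ s : G, s * s = 1 → s ≠ 1 → s ∈ R := by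
    obtain ⟨⟨x, hxR⟩, hx⟩ := exists_prime_orderOf_dvd_card' 2 hRe
    rw [Subgroup.orderOf_mk] at hx
    have hx1 : x ≠ 1 := by
      rintro rfl
      rw [orderOf_one] at hx
      omega
    have hx2 : x * x = 1 := by rw [← pow_two, ← hx]; exact pow_orderOf_eq_one x
    intro s hs hs1
    have h1 : IsConj x s := (hconj x hx2 hx1).symm.trans (hconj s hs hs1)
    obtain ⟨g, hg⟩ := isConj_iff.1 h1
    rw [← hg]
    exact hRn.conj_mem x hxR g
  have hsi : s⁻¹ = s := inv_eq_of_mul_eq_one_right hs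
  have hsrs : s * r * s = r⁻¹ := by rw [hsi] at hsr; exact hsr
  have hsR : s ∈ R := hinv s hs hs1
  have hsr2 : (s * r) * (s * r) = 1 := by
    calc (s * r) * (s * r) = (s * r * s) * r := by group
      _ = 1 := by rw [hsrs]; group
  have hsr1 : s * r ≠ 1 := by
    intro h1
    have h2 : r = s := by
      calc r = s * (s * r) := by rw [← mul_assoc, hs, one_mul]
        _ = s := by rw [h1, mul_one]
    have h3 : r ^ 2 = 1 := by rw [h2, pow_two]; exact hs
    have := orderOf_dvd_of_pow_eq_one h3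
    rw [hr] at this
    omega
  have hsrR : s * r ∈ R := hinv _ hsr2 hsr1
  have hrR : r ∈ R := by
    have : r = s * (s * r) := by rw [← mul_assoc, hs, one_mul]
    rw [this]; exact R.mul_mem hsR hsrR
  have hr2 : r ^ 2 ≠ 1 := by
    intro h3
    have := orderOf_dvd_of_pow_eq_one h3
    rw [hr] at this
    omega
  -- centralizer of R
  have hCR : centralizer (R : Set G) = ⊥ := by
    apply hO _ inferInstance
    rw [← Nat.not_even_iff_odd, even_iff_two_dvd]
    intro h2
    obtain ⟨⟨x, hxC⟩, hx⟩ := exists_prime_orderOf_dvd_card' 2 h2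
    rw [Subgroup.orderOf_mk] at hx
    have hx1 : x ≠ 1 := by
      rintro rfl
      rw [orderOf_one] at hx
      omega
    have hx2 : x * x = 1 := by rw [← pow_two, ← hx]; exact pow_orderOf_eq_one x
    have h1 : IsConj x s := (hconj x hx2 hx1).symm.trans (hconj s hs hs1)
    obtain ⟨g, hg⟩ := isConj_iff.1 h1
    have hCn : (centralizer (R : Set G)).Normal := inferInstance
    have h3 : s ∈ centralizer (R : Set G) := by
      rw [← hg]; exact hCn.conj_mem x hxC g
    have h4 : r * s = s * r := mem_centralizer_iff.1 h3 r hrR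
    have h5 : r * r = 1 := by
      have h6 : s * r * s = r := by
        calc s * r * s = (r * s) * s := by rw [h4]
          _ = r * (s * s) := by group
          _ = r := by rw [hs, mul_one]
      rw [hsrs] at h6
      calc r * r = r⁻¹ * r := by rw [h6]
        _ = 1 := by group
    exact hr2 (by rw [pow_two]; exact h5)
  have hRd : Nat.card R ∣ Nat.card G := R.card_subgroup_dvd_card
  have hR16 : ¬ 16 ∣ Nat.card R := fun hd => h16 (hd.trans hRd)
  obtain ⟨P⟩ : Nonempty (Sylow 2 R) := inferInstance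
  have hP := H21.BA2.dih hR16 (r := (⟨r, hrR⟩ : R)) (s := (⟨s, hsR⟩ : R)) (by rw [Subgroup.orderOf_mk]; exact hr)
    (Subtype.ext hs) (fun e => hs1 (congrArg Subtype.val e)) (Subtype.ext hsr) P
  have h8 : 8 ∣ Nat.card R := by
    obtain ⟨e⟩ := hP
    have h1 : Nat.card (P : Subgroup R) = 8 := by
      rw [Nat.card_congr e.toEquiv, DihedralGroup.nat_card]
    rw [← h1]; exact (P : Subgroup R).card_subgroup_dvd_card
  have hcore : oddCore R = ⊥ := by
    have hchar : (oddCore R).Characteristic := H1.Cores.pPrimeCore_characteristic 2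
    have h1 : ((oddCore R).map R.subtype).Normal := inferInstance
    have h2 : (oddCore R).map R.subtype = ⊥ := by
      apply hO _ h1
      rw [Subgroup.card_map_of_injective R.subtype_injective]
      have h3 : (Nat.card (oddCore R)).Coprime 2 := H1.Cores.coprime_card_pPrimeCore (G := R) 2
      exact (Nat.coprime_two_right).1 h3
    exact (Subgroup.map_eq_bot_iff_of_injective _ R.subtype_injective).1 h2
  have hdn : Nat.card Ω ∣ Nat.card R := dvd_card h R hRn hR1
  have eR : R ≃* R ⧸ oddCore R := (QuotientGroup.quotientBot (G := R)).symm.trans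
    (QuotientGroup.quotientMulEquivOfEq hcore.symm)
  rcases Cfsg.Agent.S0483.result P 4 (by norm_num) hP with ⟨F, i1, i2, ho, h3, ⟨e⟩⟩ | ⟨⟨e⟩⟩
  · exfalso
    have eF := eR.trans e
    have hVR : V ≤ R := by
      intro v hv
      by_cases hv1 : v = 1
      · rw [hv1]; exact R.one_mem
      · exact hinv v (hV2 v hv) hv1
    have hq := H28.PslD8.elim ho eF h8 (t := ⟨t, hVR htV⟩) (fun e => ht1 (congrArg Subtype.val e))
      (Subtype.ext ht) (V := V.subgroupOf R) (by
        rw [Nat.card_congr (subgroupOfEquivOfLe hVR).toEquiv, hV])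
      (fun v hv => Subtype.ext (hV2 v hv)) htV (by
        intro x hx
        have h4 : (x : G) ∈ centralizer ({t} : Set G) := by
          rw [mem_centralizer_singleton_iff] at hx ⊢
          exact congrArg Subtype.val hx
        have h5 := mem_normalizer_iff.1 (hNV h4)
        rw [mem_normalizer_iff]
        intro y
        exact h5 y)
    rcases hq with hq | hq
    · have h4 : Nat.card R = 168 := by rw [Nat.card_congr eF.toEquiv]; exact card_psl7 hq
      exact case_168 R h4 hf hn hdn
    · have h4 : Nat.card R = 360 := by rw [Nat.card_congr eF.toEquiv]; exact card_psl9 hq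
      refine case_360 R h4 hCR hf hn hdn hG ?_
      intro S hS
      obtain ⟨e'⟩ := H21.BA2.dih h16 hr hs hs1 hsr S
      exact d8_nc e' (fun a b => Subtype.ext (hS a a.2 b b.2))
  · obtain ⟨h4, -, h5⟩ := case_a7 R (eR.trans e) hf hn hdn hG
    exact ⟨h4, h5⟩

end H59.BA2
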