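import Cfsg.Agent.Lib.H59.BZslb

/-!
# A linear `p`-element of `GL(2, F)` with an invariant line lies in `SL(2, F)`
-/

set_option autoImplicit false
set_option linter.unusedVariables false
set_option linter.unusedSectionVars false
set_option linter.style.haveILetI false

namespace H59.BZ

open scoped MatrixGroups

theorem lin_sl {F : Type} [Field F] [Fintype F] {p : ℕ} [Fact p.Prime] [CharP F p]
    (β : Equiv.Perm (Fin 2 → F)) (ha : ∀ v w, β (v + w) = β v + β w) (hl : ∀ (l : F) v, β (l • v) = l • β v)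
    {k : ℕ} (hp : β ^ (p ^ k) = 1) {v₀ : Fin 2 → F} (hv0 : v₀ ≠ 0) {c : F} (hc : β v₀ = c • v₀) :
    β v₀ = v₀ ∧ ∃ g : Matrix.SpecialLinearGroup (Fin 2) F, ∀ v, β v = (g : Matrix (Fin 2) (Fin 2) F).mulVec v := by
  have hone : ∀ y : F, y ^ (p ^ k) = 1 → y = 1 := by
    intro y hy
    apply iterateFrobenius_inj F p k
    rw [iterateFrobenius_def, iterateFrobenius_def, hy, one_pow]
  have hpow : ∀ j : ℕ, (β ^ j) v₀ = c ^ j • v₀ := by
    intro j
    induction j with
    | zero => simp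
    | succ j ih => rw [pow_succ', Equiv.Perm.mul_apply, ih, hl, hc, smul_smul, pow_succ]
  have hc1 : c = 1 := by
    apply hone
    have h1 := hpow (p ^ k)
    rw [hp, Equiv.Perm.one_apply] at h1
    have h2 : (1 : F) • v₀ = c ^ (p ^ k) • v₀ := by rw [one_smul]; exact h1
    exact (smul_left_injective F hv0 h2).symm
  have hb0 : β v₀ = v₀ := by rw [hc, hc1, one_smul]
  refine ⟨hb0, ?_⟩
  obtain ⟨v1, hD⟩ := exists_basis hv0
  set m := ar v₀ (β v1) / ar v₀ v1 with hm
  set s := ar (β v1) v1 / ar v₀ v1 with hs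
  have h1 : β v1 = s • v₀ + m • v1 := decomp hD _
  have hμ : ∀ v, ar v₀ (β v) = m * ar v₀ v := by
    intro v
    obtain ⟨l, k, rfl⟩ : ∃ l k : F, v = l • v₀ + k • v1 := ⟨_, _, decomp hD v⟩
    rw [ha, hl, hl, hb0, h1, ar_r, ar_r, ar_r]
    ring
  have hpow2 : ∀ j : ℕ, ar v₀ ((β ^ j) v1) = m ^ j * ar v₀ v1 := by
    intro j
    induction j with
    | zero => simp
    | succ j ih => rw [pow_succ', Equiv.Perm.mul_apply, hμ, ih, pow_succ']; ring
  have hm1 : m = 1 := by
    apply hone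
    have h2 := hpow2 (p ^ k)
    rw [hp, Equiv.Perm.one_apply] at h2
    apply mul_right_cancel₀ hD
    rw [← h2, one_mul]
  rw [hm1, one_smul] at h1
  have har : ∀ v w, ar (β v) (β w) = ar v w := by
    intro v w
    obtain ⟨l, k, rfl⟩ : ∃ l k : F, v = l • v₀ + k • v1 := ⟨_, _, decomp hD v⟩
    obtain ⟨l', k', rfl⟩ : ∃ l k : F, w = l • v₀ + k • v1 := ⟨_, _, decomp hD w⟩
    rw [ha, ha, hl, hl, hl, hl, hb0, h1]
    simp only [ar, Pi.add_apply, Pi.smul_apply, smul_eq_mul]
    ring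
  let M : Matrix (Fin 2) (Fin 2) F := !![β ![1, 0] 0, β ![0, 1] 0; β ![1, 0] 1, β ![0, 1] 1]
  have hM : M.det = 1 := by
    rw [Matrix.det_fin_two]
    have h1 := har ![1, 0] ![0, 1]
    simp only [ar] at h1
    simp only [M, Matrix.of_apply, Matrix.cons_val', Matrix.cons_val_zero, Matrix.cons_val_one,
      Matrix.cons_val_fin_one] at h1 ⊢
    simp at h1
    linear_combination h1
  refine ⟨⟨M, hM⟩, fun v => ?_⟩
  have hv : v = v 0 • ![1, 0] + v 1 • ![0, 1] := by
    funext i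
    fin_cases i <;> simp
  conv_lhs => rw [hv, ha, hl, hl]
  funext i
  show _ = M.mulVec v i
  fin_cases i
  · simp [M, Matrix.mulVec, dotProduct, Fin.sum_univ_two]; ring
  · simp [M, Matrix.mulVec, dotProduct, Fin.sum_univ_two]; ring

end H59.BZ
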