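import Mathlib

/-!
# Semilinear elementary abelian groups on `F ^ 2` (piece SLB of S2987)
-/

set_option autoImplicit false
set_option linter.unusedVariables false
set_option linter.unusedSectionVars false
set_option linter.style.haveILetI false

namespace H59.BZ

open scoped MatrixGroups

theorem sq {X : Type*} [AddCommGroup X] [Finite X] (S : AddSubgroup X) (φ : X →+ X)
    (h : ∀ u ∈ S, φ u ∈ S → u = 0) : Nat.card S * Nat.card S ≤ Nat.card X := by
  rw [← Nat.card_prod]
  apply Nat.card_le_card_of_injective (fun q : S × S => (q.1 : X) + φ q.2)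
  rintro ⟨u, w⟩ ⟨u', w'⟩ he
  have he' : (u : X) + φ w = u' + φ w' := he
  have h1 : φ ((w : X) - w') = u' - u := by
    rw [map_sub, sub_eq_sub_iff_add_eq_add, add_comm]
    exact he'
  have h2 : (w : X) - w' = 0 := h _ (S.sub_mem w.2 w'.2) (by rw [h1]; exact S.sub_mem u'.2 u.2)
  have h3 : w = w' := Subtype.ext (sub_eq_zero.1 h2)
  subst h3
  have h4 : (u : X) = u' := add_right_cancel he'
  exact Prod.ext (Subtype.ext h4) rfl

variable {F : Type*} [Field F]

/-- the area form -/
def ar (v w : Fin 2 → F) : F := v 0 * w 1 - v 1 * w 0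

theorem exists_basis {v0 : Fin 2 → F} (h0 : v0 ≠ 0) : ∃ v1 : Fin 2 → F, ar v0 v1 ≠ 0 := by
  by_cases h : v0 0 = 0
  · have h1 : v0 1 ≠ 0 := by
      intro h1
      apply h0
      funext i
      fin_cases i
      · exact h
      · exact h1
    refine ⟨![1, 0], ?_⟩
    simp [ar, h1]
  · refine ⟨![0, 1], ?_⟩
    simp [ar, h]

theorem decomp {v0 v1 : Fin 2 → F} (hD : ar v0 v1 ≠ 0) (v : Fin 2 → F) :
    v = (ar v v1 / ar v0 v1) • v0 + (ar v0 v / ar v0 v1) • v1 := by
  funext i
  have h1 : ar v v1 * v0 i + ar v0 v * v1 i = ar v0 v1 * v i := by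
    fin_cases i <;> simp [ar] <;> ring
  simp only [Pi.add_apply, Pi.smul_apply, smul_eq_mul]
  rw [div_mul_eq_mul_div, div_mul_eq_mul_div, ← add_div, h1, mul_div_assoc, mul_comm, div_mul_cancel₀]
  exact hD

theorem ar_l (v0 v1 : Fin 2 → F) (l m : F) : ar (l • v0 + m • v1) v1 = l * ar v0 v1 := by
  simp [ar]; ring

theorem ar_r (v0 v1 : Fin 2 → F) (l m : F) : ar v0 (l • v0 + m • v1) = m * ar v0 v1 := by
  simp [ar]; ring

variable [Fintype F] {p : ℕ} [hp : Fact p.Prime]

theorem line (hchar : CharP F p) (hdvd : p ∣ Nat.card (Fin 2 → F)) {A : Type*} [Group A] [Finite A]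
    (hAp : ∀ a : A, a ^ p = 1) (x : A → (Fin 2 → F) → (Fin 2 → F)) (hx1 : ∀ v, x 1 v = v)
    (hxm : ∀ a b v, x (a * b) v = x a (x b v)) (hxa : ∀ a v w, x a (v + w) = x a v + x a w)
    (B : Subgroup A) (hB : ∀ b ∈ B, ∀ (l : F) v, x b (l • v) = l • x b v) :
    ∃ (v0 v1 : Fin 2 → F) (t : A → F), v0 ≠ 0 ∧ ar v0 v1 ≠ 0 ∧ ∀ b ∈ B, x b v0 = v0 ∧ x b v1 = v1 + t b • v0 := by
  have hx0 : ∀ a, x a 0 = 0 := by
    intro a
    have := hxa a 0 0
    rw [add_zero] at this
    exact left_eq_add.1 this
  letI : MulAction A (Fin 2 → F) :=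
    { smul := x
      one_smul := hx1
      mul_smul := hxm }
  have hBp : IsPGroup p B := fun b => ⟨1, by
    rw [pow_one]
    exact Subtype.ext (hAp b)⟩
  obtain ⟨v0, hv0, hne⟩ := hBp.exists_fixed_point_of_prime_dvd_card_of_fixed_point (Fin 2 → F) hdvd (a := 0)
    (fun b => hx0 b)
  have hv0' : ∀ b ∈ B, x b v0 = v0 := fun b hb => hv0 ⟨b, hb⟩
  obtain ⟨v1, hD⟩ := exists_basis (Ne.symm hne)
  have key : ∀ b ∈ B, ∃ t : F, x b v1 = v1 + t • v0 := by
    intro b hb
    set m := ar v0 (x b v1) / ar v0 v1 with hm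
    set s := ar (x b v1) v1 / ar v0 v1 with hs
    have h1 : x b v1 = s • v0 + m • v1 := decomp hD _
    have hμ : ∀ v, ar v0 (x b v) = m * ar v0 v := by
      intro v
      obtain ⟨l, k, rfl⟩ : ∃ l k : F, v = l • v0 + k • v1 := ⟨_, _, decomp hD v⟩
      rw [hxa, hB b hb, hB b hb, hv0' b hb, h1, ar_r, ar_r, ar_r]
      ring
    have hpow : ∀ k : ℕ, ar v0 (x (b ^ k) v1) = m ^ k * ar v0 v1 := by
      intro k
      induction k with
      | zero => rw [pow_zero, pow_zero, hx1, one_mul]
      | succ k ih => rw [pow_succ', hxm, hμ, ih, pow_succ']; ring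
    have h2 := hpow p
    rw [hAp, hx1] at h2
    have h3 : m ^ p = 1 := by
      apply mul_right_cancel₀ hD
      rw [← h2, one_mul]
    have h4 : m = 1 := by
      haveI := hchar
      apply frobenius_inj F p
      rw [frobenius_def, frobenius_def, h3, one_pow]
    refine ⟨s, ?_⟩
    rw [h1, h4, one_smul, add_comm]
  choose! t ht using key
  exact ⟨v0, v1, t, Ne.symm hne, hD, fun b hb => ⟨hv0' b hb, ht b hb⟩⟩

theorem fin_aut : Finite (RingAut F) :=
  Finite.of_injective (fun s : RingAut F => (fun y => s y : F → F)) (fun s s' h => RingEquiv.ext (congrFun h))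

theorem card_aut : Nat.card (RingAut F) ≤ Fintype.card F - 1 := by
  classical
  obtain ⟨g, hg⟩ := IsCyclic.exists_generator (α := Fˣ)
  rw [← Fintype.card_units, ← Nat.card_eq_fintype_card]
  apply Nat.card_le_card_of_injective (fun s : RingAut F => Units.map (s : F →* F) g)
  intro s s' h
  have h1 : s (g : F) = s' (g : F) := congrArg Units.val h
  apply RingEquiv.ext
  intro y
  by_cases hy : y = 0
  · rw [hy, map_zero, map_zero]
  · obtain ⟨k, hk⟩ := Subgroup.mem_zpowers_iff.1 (hg (Units.mk0 y hy))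
    have h2 : y = (g : F) ^ k := by
      have := congrArg Units.val hk
      rw [Units.val_zpow_eq_zpow_val, Units.val_mk0] at this
      exact this.symm
    rw [h2, map_zpow₀, map_zpow₀, h1]

theorem line2 (hchar : CharP F p) (hdvd : p ∣ Nat.card (Fin 2 → F)) {A : Type*} [Group A] [Finite A]
    (hAp : ∀ a : A, a ^ p = 1) (x : A → (Fin 2 → F) → (Fin 2 → F)) (hx1 : ∀ v, x 1 v = v)
    (hxm : ∀ a b v, x (a * b) v = x a (x b v)) (hxa : ∀ a v w, x a (v + w) = x a v + x a w)
    (hinj : ∀ a, (∀ v, x a v = v) → a = 1)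
    (B : Subgroup A) (hB : ∀ b ∈ B, ∀ (l : F) v, x b (l • v) = l • x b v) (hBn : ∃ b ∈ B, b ≠ 1) :
    ∃ (v0 v1 : Fin 2 → F) (t : A → F), v0 ≠ 0 ∧ ar v0 v1 ≠ 0 ∧
      (∀ b ∈ B, x b v0 = v0 ∧ x b v1 = v1 + t b • v0) ∧
      (∀ b ∈ B, ∀ b' ∈ B, t b = t b' → b = b') ∧ (∀ b ∈ B, ∀ b' ∈ B, t (b * b') = t b + t b') ∧
      (∀ v, (∀ b ∈ B, x b v = v) ↔ ∃ l : F, v = l • v0) := by
  obtain ⟨v0, v1, t, hv0, hD, ht⟩ := line hchar hdvd hAp x hx1 hxm hxa B hB
  have hxinv : ∀ a v, x a⁻¹ (x a v) = v := by
    intro a v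
    rw [← hxm, inv_mul_cancel, hx1]
  have hc : ∀ s s' : F, s • v0 = s' • v0 → s = s' := fun s s' h => smul_left_injective F hv0 h
  have hti : ∀ b ∈ B, ∀ b' ∈ B, t b = t b' → b = b' := by
    intro b hb b' hb' h
    have h1 : ∀ v, x b v = x b' v := by
      intro v
      rw [decomp hD v, hxa, hxa, hB b hb, hB b hb, hB b' hb', hB b' hb', (ht b hb).1, (ht b hb).2,
        (ht b' hb').1, (ht b' hb').2, h]
    have h2 : b⁻¹ * b' = 1 := by
      apply hinj
      intro v
      rw [hxm, ← h1, hxinv]
    exact (inv_mul_eq_one.1 h2)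
  have hta : ∀ b ∈ B, ∀ b' ∈ B, t (b * b') = t b + t b' := by
    intro b hb b' hb'
    have h1 := (ht (b * b') (B.mul_mem hb hb')).2
    rw [hxm, (ht b' hb').2, hxa, hB b hb, (ht b hb).1, (ht b hb).2, add_assoc, ← add_smul] at h1
    exact (hc _ _ (add_left_cancel h1)).symm
  refine ⟨v0, v1, t, hv0, hD, ht, hti, hta, ?_⟩
  intro v
  constructor
  · intro hv
    obtain ⟨b, hb, hb1⟩ := hBn
    refine ⟨ar v v1 / ar v0 v1, ?_⟩
    have h1 := hv b hb
    have h0 : t 1 = 0 := by
      have := hta 1 B.one_mem 1 B.one_mem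
      rw [mul_one] at this
      exact left_eq_add.1 this
    have h2 : t b ≠ 0 := by
      intro h
      exact hb1 (hti b hb 1 B.one_mem (by rw [h, h0]))
    have hv' := decomp hD v
    set m := ar v0 v / ar v0 v1 with hm
    set l := ar v v1 / ar v0 v1 with hl
    rw [hv', hxa, hB b hb, hB b hb, (ht b hb).1, (ht b hb).2, smul_add, ← add_assoc, add_eq_left, smul_smul] at h1
    have h3 : m * t b = 0 := by
      by_contra h3
      exact (smul_ne_zero h3 hv0) h1
    have h4 : m = 0 := by
      rcases mul_eq_zero.1 h3 with h | h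
      · exact h
      · exact absurd h h2
    rw [h4, zero_smul, add_zero] at hv'
    exact hv'
  · rintro ⟨l, rfl⟩ b hb
    rw [hB b hb, (ht b hb).1]

theorem slb_of {n : ℕ} (hF : Fintype.card F = p ^ n)
    (h4 : 4 ≤ Fintype.card F) {A : Type*} [Group A] [Finite A] (hAc : ∀ a b : A, a * b = b * a)
    (hAp : ∀ a : A, a ^ p = 1) (x : A → (Fin 2 → F) → (Fin 2 → F)) (hx1 : ∀ v, x 1 v = v)
    (hxm : ∀ a b v, x (a * b) v = x a (x b v)) (hxa : ∀ a v w, x a (v + w) = x a v + x a w)
    (hinj : ∀ a, (∀ v, x a v = v) → a = 1)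
    (hs : ∀ a, ∃ σ : F ≃+* F, ∀ (l : F) v, x a (l • v) = σ l • x a v)
    (hoff : Fintype.card F ^ 2 ≤ Nat.card A * Nat.card {v : Fin 2 → F // ∀ a, x a v = v})
    (hne : ∃ a : A, a ≠ 1) : Nat.card A = Fintype.card F ∧
      (∀ a, ∃ g : SL(2, F), ∀ v, x a v = (g : Matrix (Fin 2) (Fin 2) F).mulVec v) ∧
      ∃ v₀ : Fin 2 → F, v₀ ≠ 0 ∧ ∀ v, (∀ a, x a v = v) ↔ ∃ l : F, v = l • v₀ := by
  classical
  have hchar : CharP F p := charP_of_card_eq_prime_pow hF
  have hV : Nat.card (Fin 2 → F) = Fintype.card F ^ 2 := by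
    rw [Nat.card_eq_fintype_card, Fintype.card_fun, Fintype.card_fin]
  have hn : n ≠ 0 := by
    rintro rfl
    rw [pow_zero] at hF
    omega
  have hdvd : p ∣ Nat.card (Fin 2 → F) := by
    rw [hV, hF, ← pow_mul]
    exact dvd_pow_self p (by omega)
  have hx0 : ∀ a, x a 0 = 0 := by
    intro a
    have := hxa a 0 0
    rw [add_zero] at this
    exact left_eq_add.1 this
  have hxinv : ∀ a v, x a⁻¹ (x a v) = v := by
    intro a v
    rw [← hxm, inv_mul_cancel, hx1]
  have hxz : ∀ a v, x a v = 0 → v = 0 := by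
    intro a v h
    have := hxinv a v
    rw [h, hx0] at this
    exact this.symm
  choose σ hσ using hs
  by_cases hall : ∀ a l, σ a l = l
  · obtain ⟨v0, v1, t, hv0, hD, ht, hti, hta, hfix⟩ := line2 hchar hdvd hAp x hx1 hxm hxa hinj ⊤
      (fun b _ l v => by rw [hσ, hall]) (by obtain ⟨a, ha⟩ := hne; exact ⟨a, trivial, ha⟩)
    have hle : Nat.card A ≤ Fintype.card F := by
      rw [← Nat.card_eq_fintype_card]
      exact Nat.card_le_card_of_injective t (fun a b h => hti a trivial b trivial h)
    have hfix' : ∀ v, (∀ a, x a v = v) ↔ ∃ l : F, v = l • v0 := by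
      intro v
      rw [← hfix v]
      exact ⟨fun h a _ => h a, fun h a => h a trivial⟩
    have hle2 : Nat.card {v : Fin 2 → F // ∀ a, x a v = v} ≤ Fintype.card F := by
      rw [← Nat.card_eq_fintype_card]
      apply Nat.card_le_card_of_surjective (fun l : F => (⟨l • v0, (hfix' _).2 ⟨l, rfl⟩⟩ :
        {v : Fin 2 → F // ∀ a, x a v = v}))
      rintro ⟨v, hv⟩
      obtain ⟨l, rfl⟩ := (hfix' v).1 hv
      exact ⟨l, rfl⟩
    have hge : Fintype.card F ≤ Nat.card A := by
      have h1 : Fintype.card F * Fintype.card F ≤ Nat.card A * Fintype.card F := by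
        calc Fintype.card F * Fintype.card F = Fintype.card F ^ 2 := by ring
          _ ≤ _ := hoff
          _ ≤ _ := Nat.mul_le_mul_left _ hle2
      exact Nat.le_of_mul_le_mul_right h1 (by omega)
    refine ⟨le_antisymm hle hge, ?_, v0, hv0, hfix'⟩
    intro a
    have hlin : ∀ (l : F) v, x a (l • v) = l • x a v := fun l v => by rw [hσ, hall]
    have har : ∀ v w, ar (x a v) (x a w) = ar v w := by
      intro v w
      obtain ⟨l, k, rfl⟩ : ∃ l k : F, v = l • v0 + k • v1 := ⟨_, _, decomp hD v⟩
      obtain ⟨l', k', rfl⟩ : ∃ l k : F, w = l • v0 + k • v1 := ⟨_, _, decomp hD w⟩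
      rw [hxa, hxa, hlin, hlin, hlin, hlin, (ht a trivial).1, (ht a trivial).2]
      simp only [ar, Pi.add_apply, Pi.smul_apply, smul_eq_mul]
      ring
    let M : Matrix (Fin 2) (Fin 2) F := !![x a ![1, 0] 0, x a ![0, 1] 0; x a ![1, 0] 1, x a ![0, 1] 1]
    have hM : M.det = 1 := by
      rw [Matrix.det_fin_two]
      have h1 := har ![1, 0] ![0, 1]
      simp only [ar] at h1
      simp only [M, Matrix.of_apply, Matrix.cons_val', Matrix.cons_val_zero, Matrix.cons_val_one,
        Matrix.cons_val_fin_one] at h1 ⊢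
      simp at h1
      linear_combination h1
    refine ⟨⟨M, hM⟩, fun v => ?_⟩
    have hv : v = v 0 • ![1, 0] + v 1 • ![0, 1] := by
      funext i
      fin_cases i <;> simp
    conv_lhs => rw [hv, hxa, hlin, hlin]
    funext i
    show _ = M.mulVec v i
    fin_cases i
    · simp [M, Matrix.mulVec, dotProduct, Fin.sum_univ_two]; ring
    · simp [M, Matrix.mulVec, dotProduct, Fin.sum_univ_two]; ring
  · exfalso
    push Not at hall
    obtain ⟨a1, l, hl⟩ := hall
    have hl0 : σ a1 l - l ≠ 0 := sub_ne_zero.2 hl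
    let Sg : A →* RingAut F := MonoidHom.mk' σ (by
      intro a b
      apply RingEquiv.ext
      intro y
      have he : x a (x b ![1, 0]) ≠ 0 := by
        intro h
        have h1 := hxz _ _ (hxz _ _ h)
        have h2 := congrFun h1 0
        simp at h2
      have h1 := hσ (a * b) y ![1, 0]
      rw [hxm, hσ b, hσ a, hxm] at h1
      exact (smul_left_injective F he h1).symm)
    let FixS : AddSubgroup (Fin 2 → F) :=
      { carrier := {v | ∀ a, x a v = v}
        zero_mem' := fun a => hx0 a
        add_mem' := fun {v w} hv hw a => by rw [hxa, hv a, hw a]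
        neg_mem' := fun {v} hv a => by
          have h1 : x a (-v) + v = 0 := by
            have h2 := hxa a (-v) v
            rw [neg_add_cancel, hx0, hv a] at h2
            exact h2.symm
          exact eq_neg_of_add_eq_zero_left h1 }
    have hFc : Nat.card {v : Fin 2 → F // ∀ a, x a v = v} = Nat.card FixS := rfl
    have hfix : ∀ v ∈ FixS, l • v ∈ FixS → v = 0 := by
      intro v hv hlv
      have h1 : x a1 (l • v) = l • v := hlv a1
      rw [hσ, hv a1] at h1
      have h2 : (σ a1 l - l) • v = 0 := by rw [sub_smul, h1, sub_self]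
      rcases smul_eq_zero.1 h2 with h | h
      · exact absurd h hl0
      · exact h
    have hc1 : Nat.card FixS * Nat.card FixS ≤ Fintype.card F ^ 2 := by
      rw [← hV]
      exact sq FixS (DistribSMul.toAddMonoidHom (Fin 2 → F) l) hfix
    have hc2 : Nat.card FixS ≤ Fintype.card F := by
      rw [pow_two] at hc1
      exact Nat.mul_self_le_mul_self_iff.1 hc1
    haveI := fin_aut (F := F)
    have hr : Nat.card Sg.range ≤ Fintype.card F - 1 :=
      (Nat.card_le_card_of_injective _ (Subtype.val_injective)).trans card_aut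
    have hA : Nat.card Sg.ker * Nat.card Sg.range = Nat.card A := by
      rw [← Subgroup.index_ker]
      exact Sg.ker.card_mul_index
    rw [hFc, ← hA] at hoff
    have hq : 0 < Fintype.card F := by omega
    have hmain : Nat.card Sg.ker * Nat.card FixS ≤ Fintype.card F := by
      by_cases hK : ∃ b ∈ Sg.ker, b ≠ 1
      · have hKl : ∀ b ∈ Sg.ker, ∀ (l : F) v, x b (l • v) = l • x b v := by
          intro b hb y v
          have h1 : σ b = 1 := hb
          rw [hσ, h1]
          rfl
        obtain ⟨v0, v1, t, hv0, hD, ht, hti, hta, hfx⟩ := line2 hchar hdvd hAp x hx1 hxm hxa hinj Sg.ker hKl hK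
        have ht0 : t 1 = 0 := by
          have := hta 1 (Subgroup.one_mem _) 1 (Subgroup.one_mem _)
          rw [mul_one] at this
          exact left_eq_add.1 this
        let T : AddSubgroup F :=
          { carrier := {y | ∃ b ∈ Sg.ker, t b = y}
            zero_mem' := ⟨1, Subgroup.one_mem _, ht0⟩
            add_mem' := by
              rintro _ _ ⟨b, hb, rfl⟩ ⟨b', hb', rfl⟩
              exact ⟨b * b', Subgroup.mul_mem _ hb hb', hta b hb b' hb'⟩
            neg_mem' := by
              rintro _ ⟨b, hb, rfl⟩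
              refine ⟨b⁻¹, Subgroup.inv_mem _ hb, ?_⟩
              have h1 := hta b⁻¹ (Subgroup.inv_mem _ hb) b hb
              rw [inv_mul_cancel, ht0] at h1
              exact eq_neg_of_add_eq_zero_left h1.symm }
        have hTc : Nat.card Sg.ker ≤ Nat.card T := by
          apply Nat.card_le_card_of_injective (fun b : Sg.ker => (⟨t b, b, b.2, rfl⟩ : T))
          intro b b' h
          exact Subtype.ext (hti b b.2 b' b'.2 (congrArg Subtype.val h))
        -- `x a1` on the fixed line
        obtain ⟨c, hc⟩ : ∃ c : F, x a1 v0 = c • v0 := by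
          apply (hfx (x a1 v0)).1
          intro b hb
          rw [← hxm, hAc b a1, hxm, (ht b hb).1]
        have hc0 : c ≠ 0 := by
          rintro rfl
          rw [zero_smul] at hc
          exact hv0 (hxz _ _ hc)
        set d := ar (x a1 v1) v1 / ar v0 v1 with hd
        set e := ar v0 (x a1 v1) / ar v0 v1 with he
        have hde : x a1 v1 = d • v0 + e • v1 := decomp hD _
        have hte : ∀ b ∈ Sg.ker, σ a1 (t b) * c = e * t b := by
          intro b hb
          have h1 : x a1 (x b v1) = x b (x a1 v1) := by rw [← hxm, ← hxm, hAc]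
          rw [(ht b hb).2, hxa, hσ, hc, hde, hxa, hKl b hb, hKl b hb, (ht b hb).1, (ht b hb).2, smul_smul,
            smul_add, smul_smul, ← add_assoc] at h1
          exact smul_left_injective F hv0 (add_left_cancel h1)
        have hT : ∀ u ∈ T, l * u ∈ T → u = 0 := by
          rintro _ ⟨b, hb, rfl⟩ ⟨b', hb', hbb⟩
          have h1 := hte b hb
          have h2 := hte b' hb'
          rw [hbb, map_mul] at h2
          have h3 : (σ a1 l - l) * (σ a1 (t b) * c) = 0 := by
            linear_combination h2 - l * h1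
          rcases mul_eq_zero.1 h3 with h | h
          · exact absurd h hl0
          · rcases mul_eq_zero.1 h with h | h
            · exact (map_eq_zero (σ a1)).1 h
            · exact absurd h hc0
        have hT2 : Nat.card T * Nat.card T ≤ Fintype.card F := by
          rw [← Nat.card_eq_fintype_card]
          exact sq T (AddMonoidHom.mulLeft l) hT
        let C : AddSubgroup F :=
          { carrier := {y | y • v0 ∈ FixS}
            zero_mem' := by
              show (0 : F) • v0 ∈ FixS
              rw [zero_smul]; exact FixS.zero_mem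
            add_mem' := fun {y z} hy hz => by
              show (y + z) • v0 ∈ FixS
              rw [add_smul]; exact FixS.add_mem hy hz
            neg_mem' := fun {y} hy => by
              show (-y) • v0 ∈ FixS
              rw [neg_smul]; exact FixS.neg_mem hy }
        have hC : ∀ u ∈ C, l * u ∈ C → u = 0 := by
          intro u hu hlu
          have h1 : u • v0 ∈ FixS := hu
          have h2 : l • (u • v0) ∈ FixS := by
            rw [smul_smul]; exact hlu
          have h3 := hfix _ h1 h2
          rcases smul_eq_zero.1 h3 with h | h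
          · exact h
          · exact absurd h hv0
        have hC2 : Nat.card C * Nat.card C ≤ Fintype.card F := by
          rw [← Nat.card_eq_fintype_card]
          exact sq C (AddMonoidHom.mulLeft l) hC
        have hCc : Nat.card FixS ≤ Nat.card C := by
          apply Nat.card_le_card_of_surjective (fun y : C => (⟨(y : F) • v0, y.2⟩ : FixS))
          rintro ⟨v, hv⟩
          obtain ⟨y, hy⟩ := (hfx v).1 (fun b _ => hv b)
          subst hy
          exact ⟨⟨y, hv⟩, rfl⟩
        have h5 : Nat.card T * Nat.card C ≤ Fintype.card F := by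
          apply Nat.mul_self_le_mul_self_iff.1
          calc Nat.card T * Nat.card C * (Nat.card T * Nat.card C)
              = (Nat.card T * Nat.card T) * (Nat.card C * Nat.card C) := by ring
            _ ≤ _ := Nat.mul_le_mul hT2 hC2
        exact (Nat.mul_le_mul hTc hCc).trans h5
      · push Not at hK
        have h1 : Sg.ker = ⊥ := (Subgroup.eq_bot_iff_forall _).2 hK
        rw [h1, Subgroup.card_bot, one_mul]
        exact hc2
    have h6 : Nat.card Sg.ker * Nat.card Sg.range * Nat.card FixS ≤ (Fintype.card F - 1) * Fintype.card F := by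
      calc Nat.card Sg.ker * Nat.card Sg.range * Nat.card FixS
          = Nat.card Sg.range * (Nat.card Sg.ker * Nat.card FixS) := by ring
        _ ≤ _ := Nat.mul_le_mul hr hmain
    have h7 : Fintype.card F ^ 2 ≤ (Fintype.card F - 1) * Fintype.card F := hoff.trans h6
    have h8 : (Fintype.card F - 1) * Fintype.card F < Fintype.card F ^ 2 := by
      rw [pow_two]
      exact Nat.mul_lt_mul_of_pos_right (by omega) hq
    omega

end H59.BZ
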