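import Cfsg.Agent.Lib.H59.BZslb

/-!
# Semilinear elementary abelian groups on `F ^ 2` (pieces SLS, SLB of S2987)
-/

set_option autoImplicit false
set_option linter.unusedVariables false
set_option linter.unusedSectionVars false
set_option linter.style.haveILetI false

namespace H59.BZ

open scoped MatrixGroups

section
variable {F : Type*} [Field F]

theorem scal (φ : (Fin 2 → F) →+ (Fin 2 → F))
    (h : ∀ (g : SL(2, F)) v, φ ((g : Matrix (Fin 2) (Fin 2) F).mulVec v) =
      (g : Matrix (Fin 2) (Fin 2) F).mulVec (φ v)) : ∃ c : F, ∀ v, φ v = c • v := by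
  let up : F → SL(2, F) := fun t => ⟨!![1, t; 0, 1], by simp [Matrix.det_fin_two]⟩
  let lo : F → SL(2, F) := fun t => ⟨!![1, 0; t, 1], by simp [Matrix.det_fin_two]⟩
  have hup : ∀ t (v : Fin 2 → F), ((up t : SL(2, F)) : Matrix (Fin 2) (Fin 2) F).mulVec v = ![v 0 + t * v 1, v 1] := by
    intro t v
    funext i
    show (!![1, t; 0, 1] : Matrix (Fin 2) (Fin 2) F).mulVec v i = _
    fin_cases i <;> simp [Matrix.mulVec, dotProduct, Fin.sum_univ_two]
  have hlo : ∀ t (v : Fin 2 → F), ((lo t : SL(2, F)) : Matrix (Fin 2) (Fin 2) F).mulVec v = ![v 0, t * v 0 + v 1] := by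
    intro t v
    funext i
    show (!![1, 0; t, 1] : Matrix (Fin 2) (Fin 2) F).mulVec v i = _
    fin_cases i <;> simp [Matrix.mulVec, dotProduct, Fin.sum_univ_two]
  have h1 : ∀ s : F, φ ![s, 0] 1 = 0 := by
    intro s
    have := h (up 1) ![s, 0]
    rw [hup, hup] at this
    have e := congrFun this 0
    simp at e
    exact e
  have h2 : ∀ s : F, φ ![0, s] 0 = 0 := by
    intro s
    have := h (lo 1) ![0, s]
    rw [hlo, hlo] at this
    have e := congrFun this 1
    simp at e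
    exact e
  have h3 : ∀ t s : F, φ ![t * s, 0] 0 = t * φ ![0, s] 1 := by
    intro t s
    have := h (up t) ![0, s]
    rw [hup, hup] at this
    have e0 : (![(![0, s] : Fin 2 → F) 0 + t * (![0, s] : Fin 2 → F) 1, (![0, s] : Fin 2 → F) 1] : Fin 2 → F) =
        ![t * s, 0] + ![0, s] := by
      funext i
      fin_cases i <;> simp
    rw [e0, map_add] at this
    have e := congrFun this 0
    simp only [Pi.add_apply, h2, add_zero, Matrix.cons_val_zero, zero_add] at e
    exact e
  refine ⟨φ ![0, 1] 1, fun v => ?_⟩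
  have hv : v = ![v 0, 0] + ![0, v 1] := by
    funext i
    fin_cases i <;> simp
  have a0 : φ ![v 0, 0] 0 = v 0 * φ ![0, 1] 1 := by
    have := h3 (v 0) 1
    rwa [mul_one] at this
  have a1 : φ ![0, v 1] 1 = v 1 * φ ![0, 1] 1 := by
    have e1 := h3 1 (v 1)
    have e2 := h3 (v 1) 1
    rw [one_mul, one_mul] at e1
    rw [mul_one] at e2
    rw [← e1, e2]
  funext i
  conv_lhs => rw [hv, map_add]
  fin_cases i
  · show φ ![v 0, 0] 0 + φ ![0, v 1] 0 = φ ![0, 1] 1 * v 0
    rw [a0, h2]; ring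
  · show φ ![v 0, 0] 1 + φ ![0, v 1] 1 = φ ![0, 1] 1 * v 1
    rw [a1, h1]; ring

theorem sls [Fintype F] (h4 : 4 ≤ Fintype.card F)
    (x : (Fin 2 → F) ≃+ (Fin 2 → F))
    (hnz : ∀ g : SL(2, F), ∃ g' : SL(2, F), ∀ v, x ((g : Matrix (Fin 2) (Fin 2) F).mulVec v) =
      (g' : Matrix (Fin 2) (Fin 2) F).mulVec (x v)) :
    ∃ σ : F ≃+* F, ∀ (l : F) v, x (l • v) = σ l • x v := by
  classical
  choose f hf using hnz
  have hfi : Function.Injective f := by
    intro g g' h
    apply Subtype.ext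
    apply Matrix.ext_of_mulVec_single
    intro i
    apply x.injective
    rw [hf g, hf g', h]
  have hfs : Function.Surjective f := Finite.injective_iff_surjective.1 hfi
  have key : ∀ l : F, ∃ c : F, ∀ v, x (l • x.symm v) = c • v := by
    intro l
    obtain ⟨c, hc⟩ := scal (x.toAddMonoidHom.comp ((DistribSMul.toAddMonoidHom (Fin 2 → F) l).comp
      x.symm.toAddMonoidHom)) (by
      intro g v
      obtain ⟨g, rfl⟩ := hfs g
      show x (l • x.symm ((f g : Matrix (Fin 2) (Fin 2) F).mulVec v)) =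
        (f g : Matrix (Fin 2) (Fin 2) F).mulVec (x (l • x.symm v))
      have e1 : (f g : Matrix (Fin 2) (Fin 2) F).mulVec v = x ((g : Matrix (Fin 2) (Fin 2) F).mulVec (x.symm v)) := by
        rw [hf g, AddEquiv.apply_symm_apply]
      rw [e1, AddEquiv.symm_apply_apply, ← hf g, Matrix.mulVec_smul])
    exact ⟨c, hc⟩
  choose μ hμ using key
  have hμ' : ∀ l v, x (l • v) = μ l • x v := by
    intro l v
    have := hμ l (x v)
    rwa [AddEquiv.symm_apply_apply] at this
  obtain ⟨e, he⟩ : ∃ e : Fin 2 → F, x e ≠ 0 := by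
    refine ⟨x.symm ![1, 0], ?_⟩
    rw [AddEquiv.apply_symm_apply]
    intro h
    have := congrFun h 0
    simp at this
  have hcan : ∀ a b : F, a • x e = b • x e → a = b := fun a b h => smul_left_injective F he h
  let m : F →+* F :=
    { toFun := μ
      map_one' := hcan _ _ (by rw [← hμ', one_smul, one_smul])
      map_mul' := fun a b => hcan _ _ (by rw [← hμ', mul_smul, mul_smul, hμ', hμ'])
      map_zero' := hcan _ _ (by rw [← hμ', zero_smul, zero_smul, map_zero])
      map_add' := fun a b => hcan _ _ (by rw [← hμ', add_smul, add_smul, map_add, hμ', hμ']) }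
  have hm : Function.Bijective m := ⟨m.injective, Finite.injective_iff_surjective.1 m.injective⟩
  exact ⟨RingEquiv.ofBijective m hm, hμ'⟩

end

theorem slb {F : Type*} [Field F] [Fintype F] {p n : ℕ} [Fact p.Prime] (hF : Fintype.card F = p ^ n)
    (h4 : 4 ≤ Fintype.card F) {A : Type*} [Group A] [Finite A] (hAc : ∀ a b : A, a * b = b * a)
    (hAp : ∀ a : A, a ^ p = 1) (x : A → (Fin 2 → F) → (Fin 2 → F)) (hx1 : ∀ v, x 1 v = v)
    (hxm : ∀ a b v, x (a * b) v = x a (x b v)) (hxa : ∀ a v w, x a (v + w) = x a v + x a w)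
    (hinj : ∀ a, (∀ v, x a v = v) → a = 1)
    (hnz : ∀ a (g : SL(2, F)), ∃ g' : SL(2, F), ∀ v, x a ((g : Matrix (Fin 2) (Fin 2) F).mulVec v) =
      (g' : Matrix (Fin 2) (Fin 2) F).mulVec (x a v))
    (hoff : Fintype.card F ^ 2 ≤ Nat.card A * Nat.card {v : Fin 2 → F // ∀ a, x a v = v})
    (hne : ∃ a : A, a ≠ 1) : Nat.card A = Fintype.card F ∧
      (∀ a, ∃ g : SL(2, F), ∀ v, x a v = (g : Matrix (Fin 2) (Fin 2) F).mulVec v) ∧
      ∃ v₀ : Fin 2 → F, v₀ ≠ 0 ∧ ∀ v, (∀ a, x a v = v) ↔ ∃ l : F, v = l • v₀ := by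
  refine slb_of hF h4 hAc hAp x hx1 hxm hxa hinj ?_ hoff hne
  intro a
  let y : (Fin 2 → F) ≃+ (Fin 2 → F) :=
    { toFun := x a
      invFun := x a⁻¹
      left_inv := fun v => by rw [← hxm, inv_mul_cancel, hx1]
      right_inv := fun v => by rw [← hxm, mul_inv_cancel, hx1]
      map_add' := hxa a }
  exact sls h4 y (hnz a)

end H59.BZ
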