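import Mathlib
import Cfsg.Agent.Lib.H72.PSLClass2
import Cfsg.Agent.Lib.H6.SL2Tor

/-!
# T-GW, `|S| = 4`: involutions of `PSL₂(q)`, `q ≡ 3, 5 mod 8`
-/

set_option autoImplicit false
set_option linter.unusedVariables false
set_option linter.unusedSectionVars false

open Subgroup
open H72.ClassSize H72.TwoLargest H45.SL2 H72.Cls H72.PSLClass

namespace H59.GW4

section mat

variable {F : Type*} [Field F]

local notation "SL" => Matrix.SpecialLinearGroup (Fin 2) F
local notation "PSL" => Matrix.ProjectiveSpecialLinearGroup (Fin 2) F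

/-- Cayley-Hamilton -/
theorem tr_zero_of_sq {A : SL} (h2 : (2 : F) ≠ 0) (h : A * A = 1 ∨ A * A = -1) (hA : ¬ (A = 1 ∨ A = -1)) :
    tr A = 0 := by
  have hdet := det_eq A
  have e00 := mul_00 A A
  have e01 := mul_01 A A
  have e10 := mul_10 A A
  have e11 := mul_11 A A
  have key : tr A * A.1 0 1 = 0 ∧ tr A * A.1 1 0 = 0 ∧ tr A * (A.1 0 0 - A.1 1 1) = 0 := by
    rcases h with h | h <;> rw [h] at e00 e01 e10 e11
    · rw [one_00] at e00
      rw [one_01] at e01
      rw [one_10] at e10
      rw [one_11] at e11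
      unfold tr
      refine ⟨by linear_combination -e01, by linear_combination -e10, by linear_combination e11 - e00⟩
    · rw [neg_ij, one_00] at e00
      rw [neg_ij, one_01] at e01
      rw [neg_ij, one_10] at e10
      rw [neg_ij, one_11] at e11
      unfold tr
      refine ⟨by linear_combination -e01, by linear_combination -e10, by linear_combination e11 - e00⟩
  by_contra ht
  apply hA
  have h01 : A.1 0 1 = 0 := (mul_eq_zero.mp key.1).resolve_left ht
  have h10 : A.1 1 0 = 0 := (mul_eq_zero.mp key.2.1).resolve_left ht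
  have h00 : A.1 0 0 = A.1 1 1 := sub_eq_zero.mp ((mul_eq_zero.mp key.2.2).resolve_left ht)
  have h3 : (A.1 0 0 - 1) * (A.1 0 0 + 1) = 0 := by
    rw [h01, ← h00] at hdet
    linear_combination hdet
  rcases mul_eq_zero.mp h3 with h4 | h4
  · left
    apply ext4
    · rw [one_00]; linear_combination h4
    · rw [one_01, h01]
    · rw [one_10, h10]
    · rw [one_11]; linear_combination h4 - h00
  · right
    apply ext4
    · rw [neg_ij, one_00]; linear_combination h4
    · rw [neg_ij, one_01, h01, neg_zero]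
    · rw [neg_ij, one_10, h10, neg_zero]
    · rw [neg_ij, one_11]; linear_combination h4 - h00

/-- a trace zero element anticommuting with `A` inverts the centralizer of `A` -/
theorem inverts {A B C : SL} (h2 : (2 : F) ≠ 0) (hA : tr A = 0) (hB : tr B = 0)
    (hAB : B * A = -(A * B)) (hC : C * A = A * C) : B * C = C⁻¹ * B := by
  have hdA := det_eq A
  have hdB := det_eq B
  have hA1 : A.1 1 1 = - A.1 0 0 := by unfold tr at hA; linear_combination hA
  have hB1 : B.1 1 1 = - B.1 0 0 := by unfold tr at hB; linear_combination hB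
  -- the anticommutation relation
  have h00 : (B * A).1 0 0 = - (A * B).1 0 0 := by rw [hAB, neg_ij]
  rw [mul_00, mul_00] at h00
  have hrel : (2 : F) * A.1 0 0 * B.1 0 0 + A.1 0 1 * B.1 1 0 + A.1 1 0 * B.1 0 1 = 0 := by
    linear_combination h00
  have c00 : (C * A).1 0 0 = (A * C).1 0 0 := by rw [hC]
  have c01 : (C * A).1 0 1 = (A * C).1 0 1 := by rw [hC]
  have c10 : (C * A).1 1 0 = (A * C).1 1 0 := by rw [hC]
  rw [mul_00, mul_00] at c00
  rw [mul_01, mul_01, hA1] at c01
  rw [mul_10, mul_10, hA1] at c10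
  set a := A.1 0 0
  set b := A.1 0 1
  set c := A.1 1 0
  set p := B.1 0 0
  set q := B.1 0 1
  set r := B.1 1 0
  set x := C.1 0 0
  set y := C.1 0 1
  set z := C.1 1 0
  set w := C.1 1 1
  -- `tr (BC) = 0`
  have ht : p * (x - w) + q * z + r * y = 0 := by
    by_cases hb : b = 0
    · by_cases hc : c = 0
      · -- `a² = -1`
        have ha : a ≠ 0 := by
          intro h0
          rw [hA1, h0, hb] at hdA
          simp at hdA
        have hy : y = 0 := by
          have h3 : (2 : F) * a * y = 0 := by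
            rw [hb] at c01
            linear_combination -c01
          exact (mul_eq_zero.mp h3).resolve_left (mul_ne_zero h2 ha)
        have hz : z = 0 := by
          have h3 : (2 : F) * a * z = 0 := by
            rw [hc] at c10
            linear_combination c10
          exact (mul_eq_zero.mp h3).resolve_left (mul_ne_zero h2 ha)
        have hp : p = 0 := by
          have h3 : (2 : F) * a * p = 0 := by
            rw [hb, hc] at hrel
            linear_combination hrel
          exact (mul_eq_zero.mp h3).resolve_left (mul_ne_zero h2 ha)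
        rw [hy, hz, hp]; ring
      · apply (mul_eq_zero.mp (_ : c * (p * (x - w) + q * z + r * y) = 0)).resolve_left hc
        linear_combination z * hrel + (-p) * c10 + (-r) * (-c00)
    · apply (mul_eq_zero.mp (_ : b * (p * (x - w) + q * z + r * y) = 0)).resolve_left hb
      linear_combination y * hrel + p * c01 + q * (-c00)
  apply ext4
  · rw [mul_00, mul_00, inv_00, inv_01]
    show p * x + q * z = w * p + (-y) * r
    linear_combination ht
  · rw [mul_01, mul_01, inv_00, inv_01, hB1]
    show p * y + q * w = w * q + (-y) * (-p)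
    ring
  · rw [mul_10, mul_10, inv_10, inv_11, hB1]
    show r * x + (-p) * z = (-z) * p + x * r
    ring
  · rw [mul_11, mul_11, inv_10, inv_11, hB1]
    show r * y + (-p) * w = (-z) * q + x * (-p)
    linear_combination ht

theorem pj_mul_self_iff {A : SL} : pj F A * pj F A = 1 ↔ A * A = 1 ∨ A * A = -1 := by
  rw [← map_mul, pj_one_iff]

theorem neg_one_ne_one (h2 : (2 : F) ≠ 0) : (-1 : SL) ≠ 1 := by
  intro h
  apply h2
  have h1 := congrArg (fun M : SL => M.1 0 0) h
  simp only [neg_ij, one_00] at h1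
  linear_combination -h1

/-- `x² = 1` in `SL₂` -/
theorem sq_one (h2 : (2 : F) ≠ 0) {X : SL} (h : X * X = 1) : X = 1 ∨ X = -1 := by
  by_contra hcon
  have h1 := tr_zero_of_sq h2 (Or.inl h) hcon
  have h3 := sq_of_tr_zero h1
  rw [h] at h3
  exact neg_one_ne_one h2 h3.symm

theorem tr_zero_of_order (h2 : (2 : F) ≠ 0) {A : SL} (h : orderOf (pj F A) = 2) : tr A = 0 := by
  apply tr_zero_of_sq h2
  · rw [← pj_mul_self_iff]
    have h1 := pow_orderOf_eq_one (pj F A)
    rwa [h, pow_two] at h1
  · intro h1
    rw [(pj_one_iff A).2 h1, orderOf_one] at h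
    omega

theorem order_of_tr_zero (h2 : (2 : F) ≠ 0) {A : SL} (h : tr A = 0) : orderOf (pj F A) = 2 := by
  have h1 : pj F A ^ 2 = 1 := by
    rw [pow_two, pj_mul_self_iff]
    exact Or.inr (sq_of_tr_zero h)
  apply orderOf_eq_prime h1
  intro h3
  rw [pj_one_iff] at h3
  rcases h3 with rfl | rfl
  · rw [tr_one] at h; exact h2 h
  · rw [tr_neg, tr_one, neg_eq_zero] at h; exact h2 h

theorem exists_tr_zero : ∃ A : SL, tr A = 0 :=
  ⟨mk2 0 1 (-1) 0 (by ring), by rw [tr_mk2]; ring⟩

theorem card_center (h2 : (2 : F) ≠ 0) : Nat.card (center SL) = 2 := by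
  classical
  have h1 : (center SL : Set SL) = {1, -1} := by
    ext x
    rw [SetLike.mem_coe, H45.SL2.mem_center_iff, Set.mem_insert_iff, Set.mem_singleton_iff]
  have h3 : Nat.card (center SL) = (center SL : Set SL).ncard := rfl
  rw [h3, h1, Set.ncard_pair (neg_one_ne_one h2).symm]

end mat

/-- involution data of `PSL₂(q)`, `q = 4T + e` -/
structure InvData (L : Type*) [Group L] (T : ℕ) (e : ℤ) : Prop where
  odd : Odd T
  sign : e = 1 ∨ e = -1
  conj : ∀ s t : L, orderOf s = 2 → orderOf t = 2 → IsConj s t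
  cent : ∀ t : L, orderOf t = 2 → Nat.card (centralizer ({t} : Set L)) = 4 * T
  card : (Nat.card L : ℤ) = (4 * T + e) * (2 * T + e) * (4 * T)
  tor : ∀ t v : L, orderOf t = 2 → orderOf v = 2 → t * v = v * t → t ≠ v →
    ∃ c : L, orderOf c = 2 * T ∧ t ∈ zpowers c ∧ v * c * v⁻¹ = c⁻¹

section psl

variable {F : Type*} [Field F] [Fintype F]

local notation "SL" => Matrix.SpecialLinearGroup (Fin 2) F
local notation "PSL" => Matrix.ProjectiveSpecialLinearGroup (Fin 2) F

theorem two_ne_zero_of_odd (hodd : Odd (Fintype.card F)) : (2 : F) ≠ 0 := by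
  intro h
  obtain ⟨k, hk⟩ := hodd
  have h1 : ((Fintype.card F : ℕ) : F) = 0 := FiniteField.cast_card_eq_zero F
  rw [hk, Nat.cast_add, Nat.cast_mul, Nat.cast_ofNat, h, zero_mul, zero_add, Nat.cast_one] at h1
  exact one_ne_zero h1

theorem card_psl (h2 : (2 : F) ≠ 0) {s : ℕ} (hF : Fintype.card F = s + 1) :
    Nat.card PSL * 2 = (s + 1) * s * (s + 2) := by
  have h1 := Subgroup.card_eq_card_quotient_mul_card_subgroup (center SL)
  rw [card_center h2, card_SL2, hF] at h1
  exact h1.symm

/-- the numbers: `cs A` for a trace zero `A` -/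
theorem cs_tr_zero (h2 : (2 : F) ≠ 0) {s : ℕ} (hF : Fintype.card F = s + 1) {A : SL} (hA : tr A = 0) :
    (s % 4 = 0 ∧ cs A = (s + 1) * (s + 2)) ∨ (s % 4 = 2 ∧ cs A = (s + 1) * s) := by
  have hsq := FiniteField.isSquare_neg_one_iff (F := F)
  rw [hF] at hsq
  have hev : s % 2 = 0 := by
    by_contra hcon
    apply h2
    have h1 : ((Fintype.card F : ℕ) : F) = 0 := FiniteField.cast_card_eq_zero F
    have h3 : (Fintype.card F) % 2 = 0 := by omega
    by_contra h4
    have h5 : ringChar F ≠ 2 := by
      intro h6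
      apply h4
      have h7 : ((ringChar F : ℕ) : F) = 0 := ringChar.Nat.cast_ringChar
      rw [h6] at h7
      exact_mod_cast h7
    have h6 := FiniteField.odd_card_of_char_ne_two h5
    omega
  by_cases h4 : (s + 1) % 4 = 3
  · right
    refine ⟨by omega, cs_aniso hF ?_⟩
    rintro ⟨c, hc⟩
    rw [hA] at hc
    exact (fun h => (hsq.1 h) h4) ⟨c, by linear_combination -hc⟩
  · left
    refine ⟨by omega, ?_⟩
    obtain ⟨c, hc⟩ := hsq.2 h4
    have hc0 : c ≠ 0 := by
      rintro rfl
      rw [mul_zero] at hc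
      exact one_ne_zero (neg_eq_zero.1 hc)
    apply cs_split hF (l := c) (m := -c)
    · intro h
      apply mul_ne_zero h2 hc0
      linear_combination h
    · rw [hA]; ring
    · linear_combination hc

theorem inv_data_psl (hodd : Odd (Fintype.card F)) (h3 : 3 < Fintype.card F) (h4 : 4 ∣ Nat.card PSL)
    (h8 : ¬ 8 ∣ Nat.card PSL) : ∃ (T : ℕ) (e : ℤ), (Fintype.card F : ℤ) = 4 * T + e ∧ InvData PSL T e := by
  classical
  have h2 := two_ne_zero_of_odd hodd
  obtain ⟨s, hs⟩ : ∃ s, Fintype.card F = s + 1 := ⟨Fintype.card F - 1, by omega⟩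
  have hcard := card_psl h2 hs
  -- `T` and `e`
  obtain ⟨T, e, he, hqe, hcsA, hTodd, hTF⟩ : ∃ (T : ℕ) (e : ℤ), (e = 1 ∨ e = -1) ∧
      (Fintype.card F : ℤ) = 4 * T + e ∧
      (∀ A : SL, tr A = 0 → Nat.card (centralizer ({A} : Set SL)) = 4 * T) ∧ Odd T ∧ ((4 * T : ℕ) : F) ≠ 0 := by
    have hq0 : ((s + 1 : ℕ) : F) = 0 := by rw [← hs]; exact FiniteField.cast_card_eq_zero F
    rw [Nat.cast_add, Nat.cast_one] at hq0
    obtain ⟨A0, hA0⟩ := exists_tr_zero (F := F)
    rcases cs_tr_zero h2 hs hA0 with ⟨h5, -⟩ | ⟨h5, -⟩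
    · refine ⟨s / 4, 1, Or.inl rfl, ?_, ?_, ?_, ?_⟩
      · rw [hs]; push_cast; omega
      · intro A hA
        rcases cs_tr_zero h2 hs hA with ⟨h6, h7⟩ | ⟨h6, h7⟩
        · have h9 := cs_mul hs A
          rw [h7] at h9
          have h10 : Nat.card (centralizer ({A} : Set SL)) = s := by
            apply Nat.eq_of_mul_eq_mul_left (show 0 < (s + 1) * (s + 2) by positivity)
            rw [h9]; ring
          rw [h10]; omega
        · omega
      · by_contra hne
        rw [Nat.not_odd_iff_even] at hne
        obtain ⟨k, hk⟩ := hne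
        apply h8
        have h11 : s = 8 * k := by omega
        rw [h11] at hcard
        exact ⟨k * (8 * k + 1) * (4 * k + 1), by
          have : Nat.card PSL * 2 = (8 * (k * (8 * k + 1) * (4 * k + 1))) * 2 := by rw [hcard]; ring
          exact Nat.eq_of_mul_eq_mul_right (by norm_num) this⟩
      · have h11 : 4 * (s / 4) = s := by omega
        rw [h11]
        intro h12
        rw [h12, zero_add] at hq0
        exact one_ne_zero hq0
    · refine ⟨(s + 2) / 4, -1, Or.inr rfl, ?_, ?_, ?_, ?_⟩
      · rw [hs]; push_cast; omega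
      · intro A hA
        rcases cs_tr_zero h2 hs hA with ⟨h6, h7⟩ | ⟨h6, h7⟩
        · omega
        · have h9 := cs_mul hs A
          rw [h7] at h9
          have h10 : Nat.card (centralizer ({A} : Set SL)) = s + 2 := by
            apply Nat.eq_of_mul_eq_mul_left (show 0 < (s + 1) * s by
              have : 0 < s := by omega
              positivity)
            rw [h9]
          rw [h10]; omega
      · by_contra hne
        rw [Nat.not_odd_iff_even] at hne
        obtain ⟨k, hk⟩ := hne
        apply h8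
        obtain ⟨j, hj⟩ : ∃ j, s = 2 * j := ⟨s / 2, by omega⟩
        have h11 : s + 2 = 8 * k := by omega
        rw [h11] at hcard
        rw [hj] at hcard
        exact ⟨(2 * j + 1) * j * k, by
          have : Nat.card PSL * 2 = (8 * ((2 * j + 1) * j * k)) * 2 := by rw [hcard]; ring
          exact Nat.eq_of_mul_eq_mul_right (by norm_num) this⟩
      · have h11 : 4 * ((s + 2) / 4) = s + 2 := by omega
        rw [h11]
        intro h12
        have h13 : ((s + 2 : ℕ) : F) = (s : F) + 1 + 1 := by push_cast; ring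
        rw [h13, hq0, zero_add] at h12
        exact one_ne_zero h12
  have hTpos : 0 < T := by
    rcases Nat.eq_zero_or_pos T with h | h
    · rw [h] at hTodd; exact absurd hTodd (by decide)
    · exact h
  -- centralizers in `PSL`
  have hcent : ∀ t : PSL, orderOf t = 2 → Nat.card (centralizer ({t} : Set PSL)) = 4 * T := by
    intro t ht
    obtain ⟨A, rfl⟩ := pj_surj t
    have hA := tr_zero_of_order h2 ht
    have h5 := two_mul_cs_pj hA h2
    have h6 := Subgroup.card_mul_index (centralizer ({pj F A} : Set PSL))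
    have h7 := Subgroup.card_mul_index (centralizer ({A} : Set SL))
    rw [hcsA A hA, card_SL2, hs, Nat.add_sub_cancel, ← show (s + 1) * s * (s + 2) = (s + 1) * s * (s + 1 + 1) by ring] at h7
    change Nat.card (centralizer ({pj F A} : Set PSL)) * cs (pj F A) = Nat.card PSL at h6
    change 4 * T * cs A = (s + 1) * s * (s + 2) at h7
    rw [← hcard, ← h5, ← h6] at h7
    have h9 : 0 < cs (pj F A) := Nat.pos_of_ne_zero (Subgroup.index_ne_zero_of_finite)
    have h10 : (4 * T) * (2 * cs (pj F A)) = Nat.card (centralizer ({pj F A} : Set PSL)) * (2 * cs (pj F A)) := by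
      rw [h7]; ring
    exact (Nat.eq_of_mul_eq_mul_right (by omega) h10).symm
  refine ⟨T, e, hqe, ⟨hTodd, he, ?_, hcent, ?_, ?_⟩⟩
  · intro x y hx hy
    obtain ⟨A, rfl⟩ := pj_surj x
    obtain ⟨B, rfl⟩ := pj_surj y
    have hA := tr_zero_of_order h2 hx
    have hB := tr_zero_of_order h2 hy
    have h5 : IsConj A B := isConj_of_tr_eq A B (by rw [hA, hB]) (by
      rw [hA]
      intro h
      have h5 : (2 : F) * 2 = 0 := by linear_combination -h
      rcases mul_eq_zero.mp h5 with h6 | h6 <;> exact h2 h6)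
    exact (pj F).map_isConj h5
  · have h5 : (Nat.card PSL : ℤ) * 2 = (s + 1) * s * (s + 2) := by exact_mod_cast hcard
    rw [hs] at hqe
    push_cast at hqe
    have h6 : (s : ℤ) = 4 * T + e - 1 := by linarith
    rw [h6] at h5
    rcases he with rfl | rfl
    · have : (Nat.card PSL : ℤ) * 2 = ((4 * T + 1) * (2 * T + 1) * (4 * T)) * 2 := by rw [h5]; ring
      linarith
    · have : (Nat.card PSL : ℤ) * 2 = ((4 * T + -1) * (2 * T + -1) * (4 * T)) * 2 := by rw [h5]; ring
      linarith
  · intro t v ht hv htv hne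
    obtain ⟨A, rfl⟩ := pj_surj t
    obtain ⟨B, rfl⟩ := pj_surj v
    have hA := tr_zero_of_order h2 ht
    have hB := tr_zero_of_order h2 hv
    have hAns : A ∉ center SL := by
      intro h
      rw [H45.SL2.mem_center_iff, ← pj_one_iff] at h
      rw [h, orderOf_one] at ht
      omega
    have hAZ : A ∈ centralizer ({A} : Set SL) := by rw [mem_centralizer_singleton_iff]
    have hcyc : IsCyclic (centralizer ({A} : Set SL)) := by
      apply H6.SL2Tor.isCyclic_of_central (centralizer ({A} : Set SL)).subtype (Subgroup.subtype_injective _)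
        (by rw [hcsA A hA]; exact hTF) ⟨A, hAZ⟩ _ hAns
      intro g
      apply Subtype.ext
      exact mem_centralizer_singleton_iff.1 g.2
    obtain ⟨C, hC⟩ := hcyc.exists_generator
    have hCo : orderOf (C : SL) = 4 * T := by
      rw [Subgroup.orderOf_coe, orderOf_eq_card_of_forall_mem_zpowers hC, hcsA A hA]
    have hnegZ : (-1 : SL) ∈ centralizer ({A} : Set SL) := by
      rw [mem_centralizer_singleton_iff]; simp
    -- `BA = -AB`
    have hBA : B * A = -(A * B) := by
      have h5 : B ∈ (centralizer ({pj F A} : Set PSL)).comap (pj F) := by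
        rw [Subgroup.mem_comap, mem_centralizer_singleton_iff]
        exact htv.symm
      rcases (mem_comap_cent A B).1 h5 with h6 | h6
      · exfalso
        apply hne
        have hA2 := sq_of_tr_zero hA
        have hB2 := sq_of_tr_zero hB
        have h7 : (A * B⁻¹) * (A * B⁻¹) = 1 := by
          have h8 : B⁻¹ * A = A * B⁻¹ := by
            calc B⁻¹ * A = B⁻¹ * (A * B) * B⁻¹ := by group
              _ = B⁻¹ * (B * A) * B⁻¹ := by rw [h6]
              _ = A * B⁻¹ := by group
          calc (A * B⁻¹) * (A * B⁻¹) = A * (B⁻¹ * A) * B⁻¹ := by group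
            _ = A * (A * B⁻¹) * B⁻¹ := by rw [h8]
            _ = (A * A) * (B * B)⁻¹ := by group
            _ = 1 := by rw [hA2, hB2, mul_inv_cancel]
        have h8 : pj F (A * B⁻¹) = 1 := (pj_one_iff _).2 (sq_one h2 h7)
        rw [map_mul, map_inv, mul_inv_eq_one] at h8
        exact h8
      · exact h6
    have hCA : (C : SL) * A = A * (C : SL) := mem_centralizer_singleton_iff.1 C.2
    refine ⟨pj F (C : SL), ?_, ?_, ?_⟩
    · -- order
      have h5 : (C : SL) ^ (2 * T) = -1 := by
        have h6 : (C : SL) ^ (2 * T) * (C : SL) ^ (2 * T) = 1 := by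
          rw [← pow_add, show 2 * T + 2 * T = 4 * T by ring, ← hCo, pow_orderOf_eq_one]
        rcases sq_one h2 h6 with h7 | h7
        · exfalso
          have h9 := Nat.le_of_dvd (by omega) (orderOf_dvd_of_pow_eq_one h7)
          omega
        · exact h7
      have h6 : pj F (C : SL) ^ (2 * T) = 1 := by
        rw [← map_pow, h5, pj_one_iff]; exact Or.inr rfl
      apply Nat.dvd_antisymm (orderOf_dvd_of_pow_eq_one h6)
      have h7 : pj F ((C : SL) ^ orderOf (pj F (C : SL))) = 1 := by rw [map_pow, pow_orderOf_eq_one]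
      rw [pj_one_iff] at h7
      have h9 : (C : SL) ^ (orderOf (pj F (C : SL)) * 2) = 1 := by
        rw [pow_mul, pow_two]
        rcases h7 with h7 | h7 <;> rw [h7] <;> simp
      have h10 := orderOf_dvd_of_pow_eq_one h9
      rw [hCo] at h10
      obtain ⟨k, hk⟩ := h10
      exact ⟨k, by
        have : orderOf (pj F (C : SL)) * 2 = (2 * T * k) * 2 := by rw [hk]; ring
        exact Nat.eq_of_mul_eq_mul_right (by norm_num) this⟩
    · obtain ⟨k, hk⟩ := Subgroup.mem_zpowers_iff.1 (hC ⟨A, hAZ⟩)
      have h5 : (C : SL) ^ k = A := congrArg Subtype.val hk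
      have h6 : pj F (C : SL) ^ k = pj F A := by rw [← map_zpow, h5]
      exact Subgroup.mem_zpowers_iff.2 ⟨k, h6⟩
    · have h5 := inverts h2 hA hB hBA hCA
      rw [← map_inv, ← map_inv, ← map_mul, ← map_mul]
      congr 1
      rw [h5]; group

end psl

theorem InvData.of_equiv {L L' : Type*} [Group L] [Group L'] (f : L ≃* L') {T : ℕ} {e : ℤ}
    (h : InvData L' T e) : InvData L T e := by
  have ho : ∀ x : L, orderOf (f x) = orderOf x := fun x => orderOf_injective f.toMonoidHom f.injective x
  refine ⟨h.odd, h.sign, ?_, ?_, ?_, ?_⟩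
  · intro s t hs ht
    obtain ⟨c, hc⟩ := isConj_iff.1 (h.conj (f s) (f t) (by rw [ho, hs]) (by rw [ho, ht]))
    rw [isConj_iff]
    refine ⟨f.symm c, f.injective ?_⟩
    rw [map_mul, map_mul, map_inv, f.apply_symm_apply, hc]
  · intro t ht
    rw [← h.cent (f t) (by rw [ho, ht])]
    apply Nat.card_congr
    refine f.toEquiv.subtypeEquiv ?_
    intro a
    show a ∈ centralizer ({t} : Set L) ↔ f a ∈ centralizer ({f t} : Set L')
    rw [mem_centralizer_singleton_iff, mem_centralizer_singleton_iff, ← map_mul, ← map_mul]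
    exact f.injective.eq_iff.symm
  · rw [← h.card]
    congr 1
    exact Nat.card_congr f.toEquiv
  · intro t v ht hv htv hne
    obtain ⟨c, hc1, hc2, hc3⟩ := h.tor (f t) (f v) (by rw [ho, ht]) (by rw [ho, hv])
      (by rw [← map_mul, ← map_mul, htv]) (fun h1 => hne (f.injective h1))
    refine ⟨f.symm c, ?_, ?_, ?_⟩
    · rw [← hc1, ← ho, f.apply_symm_apply]
    · obtain ⟨k, hk⟩ := Subgroup.mem_zpowers_iff.1 hc2
      rw [Subgroup.mem_zpowers_iff]
      exact ⟨k, f.injective (by rw [map_zpow, f.apply_symm_apply, hk])⟩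
    · apply f.injective
      rw [map_mul, map_mul, map_inv, map_inv, f.apply_symm_apply, hc3]

end H59.GW4
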