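import Mathlib
import Cfsg.Prelude.Def_Solvable
import Cfsg.Agent.Lib.H59.GW4c
import Cfsg.Agent.Lib.H59.GW4p

/-!
# T-GW, `|S| = 4`: proper subgroups of type `PSL₂(q)`
-/

set_option autoImplicit false
set_option linter.unusedVariables false
set_option linter.unusedSectionVars false
set_option linter.style.haveILetI false

open Subgroup Cfsg

universe u

namespace H59.GW4

/-- odd order elements `n` with `k n k⁻¹ = n⁻¹`, `k` of odd order, are trivial -/
theorem eq_one_of_inv {G : Type*} [Group G] {k n : G} (hk : Odd (orderOf k)) (hn : Odd (orderOf n))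
    (h : k * n * k⁻¹ = n⁻¹) : n = 1 := by
  have h1 : ∀ j : ℕ, k ^ (2 * j) * n * (k ^ (2 * j))⁻¹ = n := by
    intro j
    induction j with
    | zero => simp
    | succ j ih =>
      have h2 : k ^ (2 * (j + 1)) = k * k * k ^ (2 * j) := by
        rw [← pow_two, ← pow_add]; congr 1; ring
      rw [h2]
      calc k * k * k ^ (2 * j) * n * (k * k * k ^ (2 * j))⁻¹
          = k * (k * (k ^ (2 * j) * n * (k ^ (2 * j))⁻¹) * k⁻¹) * k⁻¹ := by group
        _ = k * n⁻¹ * k⁻¹ := by rw [ih, h]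
        _ = (k * n * k⁻¹)⁻¹ := by group
        _ = n := by rw [h, inv_inv]
  obtain ⟨m, hm⟩ := hk
  have h2 : k * (k ^ (2 * m) * n * (k ^ (2 * m))⁻¹) * k⁻¹ = n := by
    have h3 : k * (k ^ (2 * m) * n * (k ^ (2 * m))⁻¹) * k⁻¹ = k ^ (2 * m + 1) * n * (k ^ (2 * m + 1))⁻¹ := by
      rw [pow_succ']; group
    rw [h3, ← hm, pow_orderOf_eq_one]; group
  rw [h1 m, h] at h2
  -- `n⁻¹ = n`
  have h3 : n ^ 2 = 1 := by
    rw [pow_two]
    calc n * n = n⁻¹ * n := by rw [h2]
      _ = 1 := inv_mul_cancel n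
  have h4 := orderOf_dvd_of_pow_eq_one h3
  rcases (Nat.dvd_prime Nat.prime_two).1 h4 with h5 | h5
  · exact orderOf_eq_one_iff.1 h5
  · rw [h5] at hn; exact absurd hn (by decide)

theorem eq_one_of_sq {G : Type*} [Group G] {n : G} (hn : Odd (orderOf n)) (h : n * n = 1) : n = 1 := by
  have h4 : orderOf n ∣ 2 := orderOf_dvd_of_pow_eq_one (by rw [pow_two]; exact h)
  rcases (Nat.dvd_prime Nat.prime_two).1 h4 with h5 | h5
  · exact orderOf_eq_one_iff.1 h5
  · rw [h5] at hn; exact absurd hn (by decide)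

/-- some power of `g` has odd order and the same image under a map whose image of `g` has odd order -/
theorem exists_odd_lift {G H : Type*} [Group G] [Finite G] [Group H] (f : G →* H) (g : G)
    (ho : Odd (orderOf (f g))) : ∃ m : ℕ, Odd (orderOf (g ^ m)) ∧ f (g ^ m) = f g := by
  set n := orderOf g with hn
  have hn0 : n ≠ 0 := (orderOf_pos g).ne'
  set a := n.factorization 2
  have h2 : Nat.Coprime (2 ^ a) (orderOf (f g)) := Nat.Coprime.pow_left a (Nat.coprime_two_left.2 ho)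
  obtain ⟨m, hm1, hm2⟩ := Nat.chineseRemainder h2 0 1
  refine ⟨m, ?_, ?_⟩
  · have h3 : 2 ^ a ∣ m := (Nat.modEq_zero_iff_dvd).1 hm1
    have h4 : (g ^ m) ^ (n / 2 ^ a) = 1 := by
      obtain ⟨j, hj⟩ := h3
      rw [← pow_mul, hj]
      have h5 : 2 ^ a * j * (n / 2 ^ a) = n * j := by
        have h6 : 2 ^ a * (n / 2 ^ a) = n := Nat.ordProj_mul_ordCompl_eq_self n 2
        calc 2 ^ a * j * (n / 2 ^ a) = (2 ^ a * (n / 2 ^ a)) * j := by ring
          _ = n * j := by rw [h6]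
      rw [h5, pow_mul, hn, pow_orderOf_eq_one, one_pow]
    have h7 : ¬ 2 ∣ n / 2 ^ a := Nat.not_dvd_ordCompl Nat.prime_two hn0
    have h8 : Odd (n / 2 ^ a) := by
      rw [← Nat.not_even_iff_odd, even_iff_two_dvd]; exact h7
    exact Odd.of_dvd_nat h8 (orderOf_dvd_of_pow_eq_one h4)
  · rw [map_pow]
    conv_rhs => rw [← pow_one (f g)]
    rw [pow_eq_pow_iff_modEq]
    exact hm2

variable {G : Type u} [Group G] [Finite G]

/-- interface for the type `PSL₂(q)` subgroups -/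
structure LData (V M : Subgroup G) (T : ℕ) (e : ℤ) : Prop where
  odd : Odd T
  sign : e = 1 ∨ e = -1
  /-- the number of involutions -/
  count : (Nat.card {x : G // x ∈ M ∧ orderOf x = 2} : ℤ) = (4 * T + e) * (2 * T + e)
  /-- involutions of `M` centralize `O(M)` -/
  inv_cent : ∀ x ∈ M, orderOf x = 2 → ∀ y ∈ oc M, x * y = y * x
  /-- the torus -/
  torus : ∀ t ∈ V, ∀ v ∈ V, t ≠ 1 → v ≠ 1 → t ≠ v →
    ∃ K : Subgroup G, K = ⁅oc (centralizer ({t} : Set G)) ⊓ M, zpowers v⁆ ∧ IsCyclic K ∧ Nat.card K = T ∧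
      (∀ x, x ∈ K ↔ x ∈ oc (centralizer ({t} : Set G)) ∧ x ∈ M ∧ v * x * v⁻¹ = x⁻¹) ∧
      (∀ x ∈ K, ∀ y ∈ oc M, x * y = y * x) ∧ K ⊓ oc M = ⊥ ∧ K ⊓ centralizer (V : Set G) = ⊥

theorem mem_of_odd_index {X : Type*} [Group X] [Finite X] {L : Subgroup X} (hL : L.Normal)
    (hodd : ¬ 2 ∣ L.index) {s : X} {k : ℕ} (hk : s ^ 2 ^ k = 1) : s ∈ L := by
  have h3 : (QuotientGroup.mk' L s) ^ 2 ^ k = 1 := by rw [← map_pow, hk, map_one]
  have h4 : orderOf (QuotientGroup.mk' L s) ∣ 2 ^ k := orderOf_dvd_of_pow_eq_one h3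
  have h5 : orderOf (QuotientGroup.mk' L s) ∣ L.index := by
    rw [Subgroup.index_eq_card]; exact orderOf_dvd_natCard _
  have h6 : Nat.Coprime (2 ^ k) L.index :=
    Nat.Coprime.pow_left k ((Nat.Prime.coprime_iff_not_dvd Nat.prime_two).2 hodd)
  have h7 : orderOf (QuotientGroup.mk' L s) = 1 := Nat.eq_one_of_dvd_coprimes h6 h4 h5
  rw [orderOf_eq_one_iff] at h7
  exact (QuotientGroup.eq_one_iff s).1 h7

/-- the quotient data: `L ⊴ X = M/O(M)` with its involution data -/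
structure QData (M : Subgroup G) (L : Subgroup (Qt M)) (T : ℕ) (e : ℤ) : Prop where
  normal : L.Normal
  odd_index : ¬ 2 ∣ L.index
  data : InvData L T e
  cent : centralizer (L : Set (Qt M)) = ⊥
  field : ∃ (F : Type) (_ : Field F) (_ : Fintype F), Odd (Fintype.card F) ∧ 3 < Fintype.card F ∧
    (Fintype.card F : ℤ) = 4 * T + e ∧ Nonempty (L ≃* Matrix.ProjectiveSpecialLinearGroup (Fin 2) F)

namespace Cfg

variable {V M : Subgroup G}

theorem not_eight (h : Cfg V) : ¬ 8 ∣ Nat.card G := by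
  obtain ⟨m, hm, hmo⟩ := h.card_G
  rw [hm]
  intro h6
  have h7 : 4 * 2 ∣ 4 * m := h6
  have h8 := Nat.dvd_of_mul_dvd_mul_left (by norm_num) h7
  exact (Nat.not_even_iff_odd.2 hmo) (even_iff_two_dvd.2 h8)

theorem not_eight_Qt (h : Cfg V) (M : Subgroup G) : ¬ 8 ∣ Nat.card (Qt M) := by
  intro h1
  apply h.not_eight
  have h2 : Nat.card (Qt M) ∣ Nat.card M := Subgroup.card_quotient_dvd_card _
  exact (h1.trans h2).trans (Subgroup.card_subgroup_dvd_card M)

theorem qdata (h : Cfg V) (hL : TypeL M) : ∃ (L : Subgroup (Qt M)) (T : ℕ) (e : ℤ), QData M L T e := by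
  obtain ⟨L, hLn, ⟨F, _, _, hFo, hF3, ⟨f⟩⟩, hLc⟩ := hL
  have h2 := two_ne_zero_of_odd hFo
  obtain ⟨s, hs⟩ : ∃ s, Fintype.card F = s + 1 := ⟨Fintype.card F - 1, by omega⟩
  have hcard := card_psl h2 hs
  have hc : Nat.card L = Nat.card (Matrix.ProjectiveSpecialLinearGroup (Fin 2) F) := Nat.card_congr f.toEquiv
  have h4 : 4 ∣ Nat.card (Matrix.ProjectiveSpecialLinearGroup (Fin 2) F) := by
    obtain ⟨k, hk⟩ := hFo
    have hsk : s = 2 * k := by omega
    rw [hsk] at hcard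
    have h5 : Nat.card (Matrix.ProjectiveSpecialLinearGroup (Fin 2) F) = (2 * k + 1) * (2 * (k * (k + 1))) := by
      have : Nat.card (Matrix.ProjectiveSpecialLinearGroup (Fin 2) F) * 2 =
          ((2 * k + 1) * (2 * (k * (k + 1)))) * 2 := by rw [hcard]; ring
      exact Nat.eq_of_mul_eq_mul_right (by norm_num) this
    rw [h5]
    apply Dvd.dvd.mul_left
    have h6 : 2 ∣ k * (k + 1) := (Nat.even_mul_succ_self k).two_dvd
    exact mul_dvd_mul (dvd_refl 2) h6
  have h8L : ¬ 8 ∣ Nat.card L := fun h5 => h.not_eight_Qt M (h5.trans (Subgroup.card_subgroup_dvd_card L))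
  obtain ⟨T, e, hT, hD⟩ := inv_data_psl hFo hF3 h4 (by rw [← hc]; exact h8L)
  refine ⟨L, T, e, hLn, ?_, hD.of_equiv f, hLc, F, _, _, hFo, hF3, hT, ⟨f⟩⟩
  intro h5
  apply h.not_eight_Qt M
  rw [← Subgroup.card_mul_index L]
  have h6 : 4 ∣ Nat.card L := by rw [hc]; exact h4
  exact (mul_dvd_mul h6 h5 : 4 * 2 ∣ _)

/-- images of involutions of `M` -/
theorem order_pr (h : Cfg V) {x : M} (hx : orderOf x = 2) : orderOf (pr M x) = 2 := by
  apply orderOf_eq_prime
  · have h0 : x ^ 2 = 1 := by rw [← hx]; exact pow_orderOf_eq_one x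
    rw [← map_pow, h0, map_one]
  · intro h1
    rw [pr_eq_one] at h1
    have h2 := Subgroup.orderOf_dvd_natCard _ h1
    rw [Subgroup.orderOf_coe, hx] at h2
    exact (Nat.not_even_iff_odd.2 (oc_odd M)) (even_iff_two_dvd.2 h2)

theorem orderOf_mk' {x : G} (hx : x ∈ M) : orderOf (⟨x, hx⟩ : M) = orderOf x := Subgroup.orderOf_mk x hx

/-- a subgroup of type `PSL₂(q)` fuses `V` -/
theorem fused_of_typeL (h : Cfg V) (hVM : V ≤ M) (hL : TypeL M) :
    ∃ r ∈ M, r ∈ normalizer (V : Set G) ∧ r ∉ centralizer (V : Set G) := by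
  rcases h.npc_or_fused hVM with h1 | h1
  · exfalso
    obtain ⟨L, T, e, hQ⟩ := h.qdata hL
    obtain ⟨S, hS, hK⟩ := h.exists_sylow hVM
    have hall : ∀ y : Qt M, y ∈ (S : Subgroup (Qt M)) := by
      intro y
      obtain ⟨x, rfl⟩ := pr_surj M y
      have hx : (x : G) ∈ oc M ⊔ V := by rw [← h1]; exact x.2
      have hn : V ≤ normalizer (oc M : Set G) := hVM.trans (le_normalizer_oc M)
      rw [sup_comm] at hx
      obtain ⟨v, hv, n, hn', hvn⟩ := (H26.Basic.mem_sup_of_le_normalizer hn).1 hx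
      have h3 : x = ⟨v, hVM hv⟩ * ⟨n, oc_le M hn'⟩ := Subtype.ext hvn.symm
      rw [h3, map_mul, (pr_eq_one M ⟨n, oc_le M hn'⟩).2 hn', mul_one, hS]
      exact Subgroup.mem_map_of_mem _ (by rw [Subgroup.mem_subgroupOf]; exact hv)
    have h4 : Nat.card L ≤ 4 := by
      rw [← hK.card_four]
      exact Nat.card_le_card_of_injective (fun l : L => (⟨(l : Qt M), hall _⟩ : (S : Subgroup (Qt M))))
        (fun a b hab => Subtype.ext (congrArg (fun z : (S : Subgroup (Qt M)) => (z : Qt M)) hab))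
    obtain ⟨F, _, _, hFo, hF3, hFT, ⟨f⟩⟩ := hQ.field
    have h5 := hQ.data.card
    have hT1 : 1 ≤ T := by
      rcases Nat.eq_zero_or_pos T with h6 | h6
      · have := hQ.data.odd; rw [h6] at this; exact absurd this (by decide)
      · exact h6
    have h6 : (Nat.card L : ℤ) ≤ 4 := by exact_mod_cast h4
    have hF3' : (4 : ℤ) ≤ 4 * T + e := by rw [← hFT]; exact_mod_cast hF3
    rcases hQ.data.sign with rfl | rfl
    · rw [h5] at h6
      have hTz : (1 : ℤ) ≤ T := by exact_mod_cast hT1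
      have h7 : (15 : ℤ) ≤ (4 * T + 1) * (2 * T + 1) := by nlinarith
      nlinarith
    · rw [h5] at h6
      have hTz : (2 : ℤ) ≤ T := by omega
      have h7 : (15 : ℤ) ≤ (4 * T + -1) * (2 * T + -1) := by nlinarith
      nlinarith
  · exact h1

/-- if `V` centralizes `O(M)`, so do all involutions -/
theorem inv_cent (h : Cfg V) (hVM : V ≤ M) (hf : ∃ r ∈ M, r ∈ normalizer (V : Set G) ∧
    r ∉ centralizer (V : Set G)) (hcen : ∀ v ∈ V, ∀ y ∈ oc M, v * y = y * v) :
    ∀ x ∈ M, orderOf x = 2 → ∀ y ∈ oc M, x * y = y * x := by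
  intro x hx hx2 y hy
  obtain ⟨t, ht, ht1⟩ : ∃ t ∈ V, t ≠ 1 := by
    obtain ⟨x, y, hx, hy, hx1, -⟩ := H5.KleinSylow.exists_pair h.klein
    exact ⟨x, hx, hx1⟩
  obtain ⟨g, hg, hgx⟩ := h.conj_of_fused hVM hf hx hx2 ht ht1
  have h1 : g * y * g⁻¹ ∈ oc M := (Subgroup.mem_normalizer_iff.1 (le_normalizer_oc M hg) y).1 hy
  have h2 := hcen t ht _ h1
  have h3 : x = g⁻¹ * t * g := by rw [← hgx]; group
  rw [h3]
  calc g⁻¹ * t * g * y = g⁻¹ * (t * (g * y * g⁻¹)) * g := by group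
    _ = g⁻¹ * ((g * y * g⁻¹) * t) * g := by rw [h2]
    _ = y * (g⁻¹ * t * g) := by group

theorem involution_mem_L (h : Cfg V) {L : Subgroup (Qt M)} {T : ℕ} {e : ℤ} (hQ : QData M L T e)
    {y : Qt M} (hy : orderOf y = 2) : y ∈ L := by
  apply mem_of_odd_index hQ.normal hQ.odd_index (k := 1)
  have h1 := pow_orderOf_eq_one y
  rw [hy] at h1
  rw [pow_one]; exact h1

/-- involutions of `M` correspond to involutions of `L` -/
theorem card_inv (h : Cfg V) (hVM : V ≤ M) (hcen : ∀ x ∈ M, orderOf x = 2 → ∀ y ∈ oc M, x * y = y * x)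
    {L : Subgroup (Qt M)} {T : ℕ} {e : ℤ} (hQ : QData M L T e) :
    (Nat.card {x : G // x ∈ M ∧ orderOf x = 2} : ℤ) = (4 * T + e) * (2 * T + e) := by
  classical
  obtain ⟨t, ht, ht1⟩ : ∃ t ∈ V, t ≠ 1 := by
    obtain ⟨x, y, hx, hy, hx1, -⟩ := H5.KleinSylow.exists_pair h.klein
    exact ⟨x, hx, hx1⟩
  have hto := h.order ht ht1
  have hpt : orderOf (pr M ⟨t, hVM ht⟩) = 2 := h.order_pr (by rw [orderOf_mk']; exact hto)
  have hptL := h.involution_mem_L hQ hpt
  have hsq : ∀ x : G, orderOf x = 2 → x * x = 1 := by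
    intro x hx
    rw [← pow_two, ← hx]; exact pow_orderOf_eq_one x
  let φ : {x : G // x ∈ M ∧ orderOf x = 2} → {y : L // orderOf y = 2} := fun x =>
    ⟨⟨pr M ⟨x.1, x.2.1⟩, h.involution_mem_L hQ (h.order_pr (by rw [orderOf_mk']; exact x.2.2))⟩, by
      rw [Subgroup.orderOf_mk]
      exact h.order_pr (by rw [orderOf_mk']; exact x.2.2)⟩
  have hφ : Function.Bijective φ := by
    constructor
    · rintro ⟨x, hxM, hx⟩ ⟨y, hyM, hy⟩ hxy
      have h1 : pr M ⟨x, hxM⟩ = pr M ⟨y, hyM⟩ := congrArg (fun z => ((z.1 : L) : Qt M)) hxy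
      rw [pr_eq_iff] at h1
      have h1' : x * y⁻¹ ∈ oc M := h1
      have h2 : y⁻¹ = y := inv_eq_of_mul_eq_one_left (hsq y hy)
      have h3 := hcen y hyM hy _ h1'
      have h4 : (x * y⁻¹) * (x * y⁻¹) = 1 := by
        have h5 : x = (x * y⁻¹) * y := by group
        have h6 := hsq x hx
        have h7 : ((x * y⁻¹) * y) * ((x * y⁻¹) * y) = (x * y⁻¹) * (x * y⁻¹) * (y * y) := by
          calc ((x * y⁻¹) * y) * ((x * y⁻¹) * y) = (x * y⁻¹) * (y * (x * y⁻¹)) * y := by group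
            _ = (x * y⁻¹) * ((x * y⁻¹) * y) * y := by rw [h3]
            _ = (x * y⁻¹) * (x * y⁻¹) * (y * y) := by group
        rw [hsq y hy, mul_one] at h7
        rw [← h7, ← h5, h6]
      have h5 : x * y⁻¹ = 1 := eq_one_of_sq
        (Odd.of_dvd_nat (oc_odd M) (Subgroup.orderOf_dvd_natCard _ h1')) h4
      exact Subtype.ext (mul_inv_eq_one.1 h5)
    · rintro ⟨⟨y, hyL⟩, hy⟩
      obtain ⟨c, hc⟩ := isConj_iff.1 (hQ.data.conj ⟨pr M ⟨t, hVM ht⟩, hptL⟩ ⟨y, hyL⟩ (by
        rw [Subgroup.orderOf_mk]; exact hpt) hy)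
      obtain ⟨g, hg⟩ := pr_surj M (c : Qt M)
      refine ⟨⟨(g : G) * t * (g : G)⁻¹, M.mul_mem (M.mul_mem g.2 (hVM ht)) (M.inv_mem g.2), ?_⟩, ?_⟩
      · have h1 : orderOf (MulAut.conj (g : G) t) = orderOf t :=
          orderOf_injective (MulAut.conj (g : G)).toMonoidHom (MulAut.conj (g : G)).injective t
        rw [MulAut.conj_apply] at h1
        rw [h1, hto]
      · apply Subtype.ext
        apply Subtype.ext
        show pr M ⟨(g : G) * t * (g : G)⁻¹, _⟩ = y
        have h1 : (⟨(g : G) * t * (g : G)⁻¹, M.mul_mem (M.mul_mem g.2 (hVM ht)) (M.inv_mem g.2)⟩ : M) =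
            g * ⟨t, hVM ht⟩ * g⁻¹ := rfl
        rw [h1, map_mul, map_mul, map_inv, hg]
        exact congrArg Subtype.val hc
  rw [Nat.card_congr (Equiv.ofBijective φ hφ)]
  -- count in `L`
  set s : L := ⟨pr M ⟨t, hVM ht⟩, hptL⟩ with hs
  have hso : orderOf s = 2 := by rw [hs, Subgroup.orderOf_mk]; exact hpt
  have h1 : Nat.card {y : L // orderOf y = 2} = (centralizer ({s} : Set L)).index := by
    have h2 : {y : L | orderOf y = 2} = MulAction.orbit (ConjAct L) s := by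
      ext y
      rw [Set.mem_ofPred_eq, ConjAct.mem_orbit_conjAct]
      constructor
      · intro hy
        exact hQ.data.conj y s hy hso
      · intro hy
        obtain ⟨c, hc⟩ := isConj_iff.1 hy
        have h3 : orderOf (MulAut.conj c y) = orderOf y :=
          orderOf_injective (MulAut.conj c).toMonoidHom (MulAut.conj c).injective y
        rw [MulAut.conj_apply, hc, hso] at h3
        exact h3.symm
    have h3 : Nat.card {y : L // orderOf y = 2} = Nat.card (MulAction.orbit (ConjAct L) s) := by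
      rw [← h2]; rfl
    have h4 := MulAction.index_stabilizer (ConjAct L) s
    rw [ConjAct.stabilizer_eq_centralizer] at h4
    rw [h3]
    exact h4.symm
  have h2 := Subgroup.card_mul_index (centralizer ({s} : Set L))
  rw [hQ.data.cent s hso] at h2
  have h3 : ((4 * T : ℕ) : ℤ) * (centralizer ({s} : Set L)).index = (4 * T + e) * (2 * T + e) * (4 * T) := by
    rw [← hQ.data.card]; exact_mod_cast h2
  rw [h1]
  have hT1 : 0 < T := by
    rcases Nat.eq_zero_or_pos T with h6 | h6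
    · have := hQ.data.odd; rw [h6] at this; exact absurd this (by decide)
    · exact h6
  have h5 : (0 : ℤ) < 4 * T := by positivity
  push_cast at h3
  apply Int.eq_of_mul_eq_mul_left h5.ne'
  rw [h3]; ring

theorem sq_eq {x : G} (hx : orderOf x = 2) : x * x = 1 := by
  rw [← pow_two, ← hx]; exact pow_orderOf_eq_one x

/-- an odd order element of `C(t)` lies in `O(C(t))` -/
theorem odd_mem_oc (h : Cfg V) {t : G} (ht : t ∈ V) (ht1 : t ≠ 1) {x : G}
    (hx : x ∈ centralizer ({t} : Set G)) (ho : Odd (orderOf x)) :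
    x ∈ oc (centralizer ({t} : Set G)) := by
  obtain ⟨S, u, v, hS, huv⟩ := h.hyp
  subst hS
  obtain ⟨k, hk⟩ := H20.V4.index_pPrimeCore_cen huv ht ht1
  have hn : (pPrimeCore 2 (centralizer ({t} : Set G))).Normal := H1.Cores.pPrimeCore_normal 2
  have h1 := (pPrimeCore 2 (centralizer ({t} : Set G))).pow_index_mem ⟨x, hx⟩
  rw [hk] at h1
  have h2 : Nat.Coprime (orderOf (⟨x, hx⟩ : centralizer ({t} : Set G))) (2 ^ k) := by
    rw [Subgroup.orderOf_mk]
    exact Nat.Coprime.pow_right k (Nat.coprime_two_right.2 ho)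
  obtain ⟨m, hm⟩ := exists_pow_eq_self_of_coprime h2.symm
  refine ⟨⟨x, hx⟩, ?_, rfl⟩
  rw [← hm]
  exact Subgroup.pow_mem _ h1 _

/-- elements commuting with an involution modulo `O(M)` commute with it -/
theorem comm_lift {t : G} (htM : t ∈ M) (ht2 : orderOf t = 2) (hcen : ∀ y ∈ oc M, t * y = y * t)
    (x : M) (hx : pr M x * pr M ⟨t, htM⟩ = pr M ⟨t, htM⟩ * pr M x) : (x : G) * t = t * x := by
  rw [← map_mul, ← map_mul, pr_eq_iff] at hx
  have hx' : (x : G) * t * (t * (x : G))⁻¹ ∈ oc M := hx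
  have htt := sq_eq ht2
  have hti : t⁻¹ = t := inv_eq_of_mul_eq_one_left htt
  set n : G := (x : G) * t * (t * (x : G))⁻¹ with hn
  have h1 : n = ((x : G) * t * (x : G)⁻¹) * t := by
    rw [hn, mul_inv_rev, hti]; group
  have h2 : (n * t) * (n * t) = 1 := by
    have h3 : n * t = (x : G) * t * (x : G)⁻¹ := by rw [h1, mul_assoc, htt, mul_one]
    rw [h3]
    calc (x : G) * t * (x : G)⁻¹ * ((x : G) * t * (x : G)⁻¹) = (x : G) * (t * t) * (x : G)⁻¹ := by group
      _ = 1 := by rw [htt]; group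
  have h3 : n * n = 1 := by
    have h4 := hcen n hx'
    calc n * n = n * (t * t) * n := by rw [htt, mul_one]
      _ = n * t * (t * n) := by group
      _ = (n * t) * (n * t) := by rw [h4]
      _ = 1 := h2
  have h4 : n = 1 := eq_one_of_sq (Odd.of_dvd_nat (oc_odd M) (Subgroup.orderOf_dvd_natCard _ hx')) h3
  rw [hn, mul_inv_eq_one] at h4
  exact h4

theorem torus (h : Cfg V) (hVM : V ≤ M) (hcen : ∀ x ∈ M, orderOf x = 2 → ∀ y ∈ oc M, x * y = y * x)
    {L : Subgroup (Qt M)} {T : ℕ} {e : ℤ} (hQ : QData M L T e) {t v : G} (ht : t ∈ V) (hv : v ∈ V)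
    (ht1 : t ≠ 1) (hv1 : v ≠ 1) (hne : t ≠ v) :
    ∃ K : Subgroup G, K = ⁅oc (centralizer ({t} : Set G)) ⊓ M, zpowers v⁆ ∧ IsCyclic K ∧ Nat.card K = T ∧
      (∀ x, x ∈ K ↔ x ∈ oc (centralizer ({t} : Set G)) ∧ x ∈ M ∧ v * x * v⁻¹ = x⁻¹) ∧
      (∀ x ∈ K, ∀ y ∈ oc M, x * y = y * x) ∧ K ⊓ oc M = ⊥ ∧ K ⊓ centralizer (V : Set G) = ⊥ := by
  classical
  have htM := hVM ht
  have hvM := hVM hv
  have hto := h.order ht ht1
  have hvo := h.order hv hv1
  have htt := h.sq ht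
  have hvv := h.sq hv
  have hvi : v⁻¹ = v := inv_eq_of_mul_eq_one_left hvv
  set U := oc (centralizer ({t} : Set G)) with hU
  have hvC : v ∈ centralizer ({t} : Set G) := by
    rw [mem_centralizer_singleton_iff]; exact h.comm hv ht
  have hvU : v ∈ normalizer (U : Set G) := le_normalizer_oc _ hvC
  have hUodd : ∀ x ∈ U, Odd (orderOf x) := fun x hx =>
    Odd.of_dvd_nat (oc_odd _) (Subgroup.orderOf_dvd_natCard _ hx)
  have hOodd : ∀ x ∈ oc M, Odd (orderOf x) := fun x hx =>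
    Odd.of_dvd_nat (oc_odd _) (Subgroup.orderOf_dvd_natCard _ hx)
  have hTpos : 0 < T := by
    rcases Nat.eq_zero_or_pos T with h6 | h6
    · have := hQ.data.odd; rw [h6] at this; exact absurd this (by decide)
    · exact h6
  -- images in `L`
  have hpt : orderOf (pr M ⟨t, htM⟩) = 2 := h.order_pr (by rw [orderOf_mk']; exact hto)
  have hpv : orderOf (pr M ⟨v, hvM⟩) = 2 := h.order_pr (by rw [orderOf_mk']; exact hvo)
  set tb : L := ⟨pr M ⟨t, htM⟩, h.involution_mem_L hQ hpt⟩ with htb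
  set vb : L := ⟨pr M ⟨v, hvM⟩, h.involution_mem_L hQ hpv⟩ with hvb
  have htbo : orderOf tb = 2 := by rw [htb, Subgroup.orderOf_mk]; exact hpt
  have hvbo : orderOf vb = 2 := by rw [hvb, Subgroup.orderOf_mk]; exact hpv
  have hcomm : tb * vb = vb * tb := by
    apply Subtype.ext
    show pr M ⟨t, htM⟩ * pr M ⟨v, hvM⟩ = pr M ⟨v, hvM⟩ * pr M ⟨t, htM⟩
    rw [← map_mul, ← map_mul]
    congr 1
    exact Subtype.ext (h.comm ht hv)
  have hneb : tb ≠ vb := by
    intro h1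
    have h2 : pr M ⟨t, htM⟩ = pr M ⟨v, hvM⟩ := congrArg Subtype.val h1
    rw [pr_eq_iff] at h2
    have h2' : t * v⁻¹ ∈ oc M := h2
    have h3 : t * v⁻¹ ∈ V := V.mul_mem ht (V.inv_mem hv)
    have h4 := eq_one_of_sq (hOodd _ h2') (h.sq h3)
    exact hne (mul_inv_eq_one.1 h4)
  obtain ⟨c, hco, htc, hvc⟩ := hQ.data.tor tb vb htbo hvbo hcomm hneb
  -- lift of `c²`
  obtain ⟨g, hg⟩ := pr_surj M ((c ^ 2 : L) : Qt M)
  have hc2 : orderOf (c ^ 2) = T := by
    rw [orderOf_pow_of_dvd (by norm_num) (by rw [hco]; exact dvd_mul_right 2 T), hco]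
    omega
  have hc2' : orderOf ((c ^ 2 : L) : Qt M) = T := by rw [Subgroup.orderOf_coe, hc2]
  obtain ⟨m, hmo, hm⟩ := exists_odd_lift (pr M) g (by rw [hg, hc2']; exact hQ.data.odd)
  set g' : M := g ^ m with hg'
  have hpg : pr M g' = ((c ^ 2 : L) : Qt M) := by rw [hm, hg]
  have hctb : c * tb = tb * c := by
    obtain ⟨k, hk⟩ := Subgroup.mem_zpowers_iff.1 htc
    rw [← hk, ← zpow_one_add, ← zpow_add_one, add_comm]
  have hgt : (g' : G) * t = t * g' := by
    apply comm_lift htM hto (hcen t htM hto)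
    rw [hpg]
    have h1 : c ^ 2 * tb = tb * c ^ 2 := by
      have : Commute c tb := hctb
      exact (this.pow_left 2).eq
    exact congrArg Subtype.val h1
  have hgU : (g' : G) ∈ U := by
    apply h.odd_mem_oc ht ht1
    · rw [mem_centralizer_singleton_iff]; exact hgt
    · rw [Subgroup.orderOf_coe]; exact hmo
  -- the generator
  set k : G := (g' : G) * v * (g' : G)⁻¹ * v⁻¹ with hk
  have hkU : k ∈ U := by
    have h1 : k = (g' : G) * (v * (g' : G)⁻¹ * v⁻¹) := by rw [hk]; group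
    rw [h1]
    exact U.mul_mem hgU ((Subgroup.mem_normalizer_iff.1 hvU _).1 (U.inv_mem hgU))
  have hkM : k ∈ M := M.mul_mem (M.mul_mem (M.mul_mem g'.2 hvM) (M.inv_mem g'.2)) (M.inv_mem hvM)
  have hkinv : v * k * v⁻¹ = k⁻¹ := by
    rw [hk]
    calc v * ((g' : G) * v * (g' : G)⁻¹ * v⁻¹) * v⁻¹ = v * (g' : G) * v * (g' : G)⁻¹ * (v * v)⁻¹ := by group
      _ = v * (g' : G) * v⁻¹ * (g' : G)⁻¹ := by rw [hvv, hvi]; group
      _ = ((g' : G) * v * (g' : G)⁻¹ * v⁻¹)⁻¹ := by group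
  have hpk : pr M ⟨k, hkM⟩ = ((c ^ 4 : L) : Qt M) := by
    have h1 : (⟨k, hkM⟩ : M) = g' * ⟨v, hvM⟩ * g'⁻¹ * (⟨v, hvM⟩)⁻¹ := rfl
    rw [h1, map_mul, map_mul, map_mul, map_inv, map_inv, hpg]
    have h2 : c ^ 2 * vb * (c ^ 2)⁻¹ * vb⁻¹ = c ^ 4 := by
      have h3 : vb * (c ^ 2)⁻¹ * vb⁻¹ = c ^ 2 := by
        have h4 : vb * (c ^ 2)⁻¹ * vb⁻¹ = ((vb * c * vb⁻¹) ^ 2)⁻¹ := by
          rw [← MulAut.conj_apply, ← MulAut.conj_apply, ← map_pow, ← map_inv]
        rw [h4, hvc, inv_pow, inv_inv]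
      calc c ^ 2 * vb * (c ^ 2)⁻¹ * vb⁻¹ = c ^ 2 * (vb * (c ^ 2)⁻¹ * vb⁻¹) := by group
        _ = c ^ 2 * c ^ 2 := by rw [h3]
        _ = c ^ 4 := by rw [← pow_add]
    exact congrArg Subtype.val h2
  have hc4 : orderOf (c ^ 4) = T := by
    have h1 : c ^ 4 = (c ^ 2) ^ 2 := by rw [← pow_mul]
    rw [h1, Nat.Coprime.orderOf_pow (by rw [hc2]; exact Nat.coprime_two_right.2 hQ.data.odd), hc2]
  have hkpow : ∀ j : ℤ, v * k ^ j * v⁻¹ = (k ^ j)⁻¹ := by
    intro j
    rw [← MulAut.conj_apply, map_zpow, MulAut.conj_apply, hkinv, inv_zpow]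
  have hkT : k ^ T = 1 := by
    have h1 : k ^ T ∈ oc M := by
      have h2 : pr M (⟨k, hkM⟩ ^ T) = 1 := by
        rw [map_pow, hpk, ← Subgroup.coe_pow]
        have h3 : (c ^ 4) ^ T = 1 := by rw [← hc4]; exact pow_orderOf_eq_one _
        rw [h3]; rfl
      exact (pr_eq_one M _).1 h2
    have h2 := hkpow (T : ℤ)
    rw [zpow_natCast] at h2
    have h3 := hcen v hvM hvo _ h1
    have h4 : k ^ T * k ^ T = 1 := by
      have h5 : v * k ^ T * v⁻¹ = k ^ T := by rw [h3]; group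
      rw [h5] at h2
      nth_rewrite 1 [h2]
      exact inv_mul_cancel _
    exact eq_one_of_sq (hOodd _ h1) h4
  have hko : orderOf k = T := by
    apply Nat.dvd_antisymm (orderOf_dvd_of_pow_eq_one hkT)
    have h1 : orderOf (pr M ⟨k, hkM⟩) ∣ orderOf (⟨k, hkM⟩ : M) := orderOf_map_dvd _ _
    rw [hpk, Subgroup.orderOf_coe, hc4, Subgroup.orderOf_mk] at h1
    exact h1
  -- characterization
  have hchar : ∀ x, x ∈ zpowers k ↔ x ∈ U ∧ x ∈ M ∧ v * x * v⁻¹ = x⁻¹ := by
    intro x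
    constructor
    · intro hx
      obtain ⟨j, rfl⟩ := Subgroup.mem_zpowers_iff.1 hx
      exact ⟨U.zpow_mem hkU j, M.zpow_mem hkM j, hkpow j⟩
    · rintro ⟨hxU, hxM, hxv⟩
      have hxo := hUodd x hxU
      have hxpo : Odd (orderOf (pr M ⟨x, hxM⟩)) := by
        refine Odd.of_dvd_nat hxo ?_
        have h1 : orderOf (pr M ⟨x, hxM⟩) ∣ orderOf (⟨x, hxM⟩ : M) := orderOf_map_dvd _ _
        rwa [Subgroup.orderOf_mk] at h1
      have hLn := hQ.normal
      -- `pr x ∈ L`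
      have hxL : pr M ⟨x, hxM⟩ ∈ L := by
        have h1 : QuotientGroup.mk' L (pr M ⟨v, hvM⟩) = 1 := by
          rw [QuotientGroup.mk'_apply, QuotientGroup.eq_one_iff]
          exact h.involution_mem_L hQ hpv
        have h2 : (⟨v, hvM⟩ : M) * ⟨x, hxM⟩ * (⟨v, hvM⟩)⁻¹ = (⟨x, hxM⟩)⁻¹ := Subtype.ext hxv
        have h3 := congrArg (fun z => QuotientGroup.mk' L (pr M z)) h2
        simp only [map_mul, map_inv] at h3
        rw [h1, one_mul, inv_one, mul_one] at h3
        have h4 : QuotientGroup.mk' L (pr M ⟨x, hxM⟩) * QuotientGroup.mk' L (pr M ⟨x, hxM⟩) = 1 := by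
          nth_rewrite 1 [h3]
          exact inv_mul_cancel _
        have h5 : QuotientGroup.mk' L (pr M ⟨x, hxM⟩) = 1 :=
          eq_one_of_sq (Odd.of_dvd_nat hxpo (orderOf_map_dvd _ _)) h4
        rwa [QuotientGroup.mk'_apply, QuotientGroup.eq_one_iff] at h5
      set y : L := ⟨pr M ⟨x, hxM⟩, hxL⟩ with hy
      have hyo : Odd (orderOf y) := by rw [hy, Subgroup.orderOf_mk]; exact hxpo
      have hyt : y ∈ centralizer ({tb} : Set L) := by
        rw [mem_centralizer_singleton_iff]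
        apply Subtype.ext
        show pr M ⟨x, hxM⟩ * pr M ⟨t, htM⟩ = pr M ⟨t, htM⟩ * pr M ⟨x, hxM⟩
        rw [← map_mul, ← map_mul]
        congr 1
        apply Subtype.ext
        exact mem_centralizer_singleton_iff.1 (oc_le _ hxU)
      -- `y ∈ ⟨c⟩`
      have hcle : zpowers c ≤ centralizer ({tb} : Set L) := by
        rw [Subgroup.zpowers_le, mem_centralizer_singleton_iff]; exact hctb
      have hidx : (zpowers c).relIndex (centralizer ({tb} : Set L)) = 2 := by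
        have h1 := Subgroup.card_mul_index ((zpowers c).subgroupOf (centralizer ({tb} : Set L)))
        rw [Nat.card_congr (Subgroup.subgroupOfEquivOfLe hcle).toEquiv, Nat.card_zpowers, hco,
          hQ.data.cent tb htbo] at h1
        have h2 : 2 * T * ((zpowers c).subgroupOf (centralizer ({tb} : Set L))).index = 2 * T * 2 := by
          rw [h1]; ring
        exact Nat.eq_of_mul_eq_mul_left (by omega) h2
      have hyc : y ∈ zpowers c := by
        have hn : ((zpowers c).subgroupOf (centralizer ({tb} : Set L))).Normal :=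
          Subgroup.normal_of_index_eq_two hidx
        have h1 := ((zpowers c).subgroupOf (centralizer ({tb} : Set L))).pow_index_mem ⟨y, hyt⟩
        have h2 : ((zpowers c).subgroupOf (centralizer ({tb} : Set L))).index = 2 := hidx
        rw [h2] at h1
        have h3 : y ^ 2 ∈ zpowers c := h1
        have h4 : Nat.Coprime (orderOf y) 2 := Nat.coprime_two_right.2 hyo
        obtain ⟨j, hj⟩ := exists_pow_eq_self_of_coprime h4.symm
        rw [← hj]
        exact Subgroup.pow_mem _ h3 _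
      obtain ⟨j, hj⟩ := Subgroup.mem_zpowers_iff.1 hyc
      have hyT : y ^ T = 1 := by
        have h1 : y ^ T * y ^ T = 1 := by
          rw [← pow_add, ← two_mul, ← hj, ← zpow_natCast, ← zpow_mul, mul_comm, zpow_mul, zpow_natCast, ← hco,
            pow_orderOf_eq_one, one_zpow]
        exact eq_one_of_sq (Odd.of_dvd_nat hyo (orderOf_pow_dvd T)) h1
      have hj2 : ∃ i : ℤ, j = 2 * i := by
        rw [← hj, ← zpow_natCast, ← zpow_mul] at hyT
        have h1 := (orderOf_dvd_iff_zpow_eq_one).2 hyT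
        rw [hco] at h1
        push_cast at h1
        have h2 : (T : ℤ) ≠ 0 := by exact_mod_cast hTpos.ne'
        have h3 : (2 : ℤ) ∣ j := by
          apply Int.dvd_of_mul_dvd_mul_right h2 h1
        exact h3
      obtain ⟨i, hi⟩ := hj2
      have hcc : c ^ 2 = (c ^ 4) ^ ((T + 1) / 2) := by
        obtain ⟨a, ha⟩ := hQ.data.odd
        have h1 : (T + 1) / 2 = a + 1 := by omega
        rw [h1, ← pow_mul]
        have h2 : 4 * (a + 1) = 2 * T + 2 := by omega
        rw [h2, pow_add, ← hco, pow_orderOf_eq_one, one_mul]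
      have hyk : y = (c ^ 4) ^ (((T + 1) / 2 : ℕ) * i : ℤ) := by
        rw [zpow_mul, zpow_natCast, ← hcc, ← hj, hi, zpow_mul, zpow_ofNat]
      set w : ℤ := (((T + 1) / 2 : ℕ) * i : ℤ) with hw
      have hprx : pr M ⟨x, hxM⟩ = pr M (⟨k, hkM⟩ ^ w) := by
        rw [map_zpow, hpk, ← Subgroup.coe_zpow, ← hyk]
      rw [pr_eq_iff] at hprx
      have hn : x * (k ^ w)⁻¹ ∈ oc M := hprx
      set n := x * (k ^ w)⁻¹ with hndef
      have hxn : x = n * k ^ w := by rw [hndef]; group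
      have h1 := hcen v hvM hvo n hn
      have h2 : v * x * v⁻¹ = n * (k ^ w)⁻¹ := by
        rw [hxn]
        calc v * (n * k ^ w) * v⁻¹ = (v * n) * k ^ w * v⁻¹ := by group
          _ = n * (v * k ^ w * v⁻¹) := by rw [h1]; group
          _ = n * (k ^ w)⁻¹ := by rw [hkpow]
      rw [hxv, hxn] at h2
      have h3 : (k ^ w) * n * (k ^ w)⁻¹ = n⁻¹ := by
        have h4 : (n * k ^ w)⁻¹ = (k ^ w)⁻¹ * n⁻¹ := mul_inv_rev _ _
        rw [h4] at h2
        calc (k ^ w) * n * (k ^ w)⁻¹ = (k ^ w) * (n * (k ^ w)⁻¹) := by group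
          _ = (k ^ w) * ((k ^ w)⁻¹ * n⁻¹) := by rw [← h2]
          _ = n⁻¹ := by group
      have h4 : n = 1 := eq_one_of_inv (hUodd _ (U.zpow_mem hkU w)) (hOodd _ hn) h3
      rw [hxn, h4, one_mul]
      exact Subgroup.zpow_mem_zpowers _ _
  have hself : ∀ x, v * x * v⁻¹ = x⁻¹ → v * x = x * v → Odd (orderOf x) → x = 1 := by
    intro x h1 h2 h3
    apply eq_one_of_sq h3
    have h4 : v * x * v⁻¹ = x := by rw [h2]; group
    rw [h4] at h1
    nth_rewrite 1 [h1]
    exact inv_mul_cancel _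
  refine ⟨zpowers k, ?_, inferInstance, by rw [Nat.card_zpowers, hko], hchar, ?_, ?_, ?_⟩
  · apply le_antisymm
    · rw [Subgroup.zpowers_le]
      have h1 := Subgroup.commutator_mem_commutator (H₁ := U ⊓ M) (H₂ := zpowers v)
        (show (g' : G) ∈ U ⊓ M from ⟨hgU, g'.2⟩) (mem_zpowers v)
      rw [commutatorElement_def] at h1
      exact h1
    · rw [Subgroup.commutator_le]
      intro u hu w hw
      rw [commutatorElement_def]
      have hw2 : w = 1 ∨ w = v := by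
        obtain ⟨j, rfl⟩ := Subgroup.mem_zpowers_iff.1 hw
        rcases Int.even_or_odd' j with ⟨i, hi | hi⟩
        · left
          rw [hi, zpow_mul, zpow_two, hvv, one_zpow]
        · right
          rw [hi, zpow_add, zpow_mul, zpow_two, hvv, one_zpow, one_mul, zpow_one]
      rcases hw2 with rfl | rfl
      · simp
      · rw [hchar]
        refine ⟨?_, M.mul_mem (M.mul_mem (M.mul_mem hu.2 hvM) (M.inv_mem hu.2)) (M.inv_mem hvM), ?_⟩
        · have h1 : u * w * u⁻¹ * w⁻¹ = u * (w * u⁻¹ * w⁻¹) := by group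
          rw [h1]
          exact U.mul_mem hu.1 ((Subgroup.mem_normalizer_iff.1 hvU _).1 (U.inv_mem hu.1))
        · calc w * (u * w * u⁻¹ * w⁻¹) * w⁻¹ = w * u * w * u⁻¹ * (w * w)⁻¹ := by group
            _ = w * u * w⁻¹ * u⁻¹ := by rw [hvv, hvi]; group
            _ = (u * w * u⁻¹ * w⁻¹)⁻¹ := by group
  · intro x hx y hy
    have h1 : (g' : G) * v * (g' : G)⁻¹ ∈ M := M.mul_mem (M.mul_mem g'.2 hvM) (M.inv_mem g'.2)
    have h2 : orderOf ((g' : G) * v * (g' : G)⁻¹) = 2 := by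
      have h3 : orderOf (MulAut.conj (g' : G) v) = orderOf v :=
        orderOf_injective (MulAut.conj (g' : G)).toMonoidHom (MulAut.conj (g' : G)).injective v
      rw [MulAut.conj_apply] at h3
      rw [h3, hvo]
    have h3 : Commute ((g' : G) * v * (g' : G)⁻¹) y := hcen _ h1 h2 y hy
    have h4 : Commute v y := hcen v hvM hvo y hy
    have h5 : Commute k y := by
      rw [hk]
      exact h3.mul_left h4.inv_left
    obtain ⟨j, rfl⟩ := Subgroup.mem_zpowers_iff.1 hx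
    exact (h5.zpow_left j).eq
  · rw [eq_bot_iff]
    rintro x ⟨hx1, hx2⟩
    rw [Subgroup.mem_bot]
    have h1 := (hchar x).1 hx1
    exact hself x h1.2.2 (hcen v hvM hvo x hx2) (hUodd x h1.1)
  · rw [eq_bot_iff]
    rintro x ⟨hx1, hx2⟩
    rw [Subgroup.mem_bot]
    have h1 := (hchar x).1 hx1
    exact hself x h1.2.2 (mem_centralizer_iff.1 hx2 v hv) (hUodd x h1.1)

/-- the interface theorem -/
theorem ldata (h : Cfg V) (hVM : V ≤ M) (hL : TypeL M) (hcen : ∀ v ∈ V, ∀ y ∈ oc M, v * y = y * v) :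
    ∃ (T : ℕ) (e : ℤ), LData V M T e := by
  obtain ⟨L, T, e, hQ⟩ := h.qdata hL
  have hf := h.fused_of_typeL hVM hL
  have hc := h.inv_cent hVM hf hcen
  exact ⟨T, e, hQ.data.odd, hQ.data.sign, h.card_inv hVM hc hQ, hc,
    fun t ht v hv ht1 hv1 hne => h.torus hVM hc hQ ht hv ht1 hv1 hne⟩

end Cfg

end H59.GW4
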