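import Cfsg.Agent.Lib.H59.J1g
import Cfsg.Agent.Lib.H76.MaxClass
import Cfsg.Agent.Lib.H28.GW8A
import Cfsg.Agent.Lib.H98.DicksonPGL
import Cfsg.Agent.S0204

/-!
# Simple groups of order 175560: the Sylow 2-subgroups
-/

set_option autoImplicit false
set_option linter.unusedVariables false
set_option linter.unusedSectionVars false
set_option linter.style.haveILetI false

namespace H59.J1

open Cfsg Subgroup H21.SylowTools H54.E8 Pointwise

universe u

theorem inv_unique {T : Type*} [Group T] [Finite T] {a x : T} {k : ℕ} (ha : orderOf a = 2 * k) (hk : 0 < k)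
    (hx : x ∈ zpowers a) (hx2 : x * x = 1) (hx1 : x ≠ 1) : x = a ^ k := by
  classical
  rw [mem_zpowers_iff_mem_range_orderOf, Finset.mem_image] at hx
  obtain ⟨j, hj, rfl⟩ := hx
  rw [Finset.mem_range, ha] at hj
  have h1 : a ^ (j + j) = 1 := by rw [pow_add]; exact hx2
  have h2 := orderOf_dvd_of_pow_eq_one h1
  rw [ha] at h2
  obtain ⟨c, hc⟩ := h2
  have hj2 : j = k * c := by
    have : 2 * k * c = 2 * (k * c) := by ring
    omega
  have hc2 : c < 2 := by
    by_contra hcon
    push Not at hcon
    have : k * 2 ≤ k * c := Nat.mul_le_mul_left k hcon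
    omega
  interval_cases c
  · exfalso; apply hx1
    rw [hj2, mul_zero, pow_zero]
  · rw [hj2, mul_one]

theorem ord8 {T : Type*} [Group T] [Finite T] (h8 : Nat.card T = 8) : (∀ x : T, x * x = 1) ∨
    ((∀ x y : T, x * y = y * x) ∧ ∃ z : T, z ≠ 1 ∧ ∀ φ : MulAut T, φ z = z) ∨
    Nonempty (T ≃* DihedralGroup 4) ∨ Nonempty (T ≃* QuaternionGroup 2) := by
  classical
  by_cases h1 : ∀ x : T, x * x = 1
  · exact Or.inl h1
  push Not at h1
  obtain ⟨a, ha⟩ := h1
  by_cases hex : ∃ b : T, orderOf b = 8
  · obtain ⟨b, hb⟩ := hex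
    have htop : zpowers b = ⊤ := by
      apply Subgroup.eq_top_of_card_eq
      rw [Nat.card_zpowers, hb, h8]
    right; left
    refine ⟨?_, b ^ 4, ?_, ?_⟩
    · intro x y
      have hx : x ∈ zpowers b := by rw [htop]; trivial
      have hy : y ∈ zpowers b := by rw [htop]; trivial
      obtain ⟨i, rfl⟩ := mem_zpowers_iff.1 hx
      obtain ⟨j, rfl⟩ := mem_zpowers_iff.1 hy
      exact ((Commute.refl b).zpow_zpow i j).eq
    · intro h
      have := orderOf_dvd_of_pow_eq_one h
      rw [hb] at this
      omega
    · intro φ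
      apply inv_unique (a := b) (k := 4) (by rw [hb]) (by norm_num)
      · rw [htop]; trivial
      · rw [← map_mul, ← pow_add]
        have : b ^ (4 + 4) = 1 := by
          show b ^ 8 = 1
          rw [← hb]; exact pow_orderOf_eq_one b
        rw [this, map_one]
      · intro h
        have h2 : b ^ 4 = 1 := by
          apply φ.injective
          rw [h, map_one]
        have := orderOf_dvd_of_pow_eq_one h2
        rw [hb] at this
        omega
  have hoa : orderOf a = 4 := by
    have h2 : orderOf a ∣ 8 := by rw [← h8]; exact orderOf_dvd_natCard a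
    have h3 : orderOf a ≠ 8 := fun h => hex ⟨a, h⟩
    have h4 : orderOf a ≠ 1 := by
      intro h
      rw [orderOf_eq_one_iff] at h
      apply ha
      rw [h, one_mul]
    have h5 : orderOf a ≠ 2 := by
      intro h
      apply ha
      rw [← pow_two, ← h]; exact pow_orderOf_eq_one a
    have h6 : orderOf a ≤ 8 := Nat.le_of_dvd (by norm_num) h2
    obtain ⟨c, hc⟩ := h2
    generalize orderOf a = n at *
    interval_cases n <;> omega
  have hidx : (zpowers a).index = 2 := by
    have := (zpowers a).card_mul_index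
    rw [Nat.card_zpowers, hoa, h8] at this
    omega
  have ha4 : a ^ 4 = 1 := by rw [← hoa]; exact pow_orderOf_eq_one a
  by_cases hcomm : ∀ x y : T, x * y = y * x
  · right; left
    refine ⟨hcomm, a ^ 2, by rw [pow_two]; exact ha, fun φ => ?_⟩
    apply inv_unique (a := a) (k := 2) (by rw [hoa]) (by norm_num)
    · rw [map_pow]
      exact Subgroup.sq_mem_of_index_two hidx (φ a)
    · rw [← map_mul, ← pow_add]
      show φ (a ^ 4) = 1
      rw [ha4, map_one]
    · intro h
      apply ha
      rw [← pow_two]
      apply φ.injective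
      rw [h, map_one]
  · right; right
    obtain ⟨t, ht⟩ : ∃ t, t ∉ zpowers a := by
      by_contra hcon
      push Not at hcon
      have : zpowers a = ⊤ := (Subgroup.eq_top_iff' _).2 hcon
      rw [this, Subgroup.index_top] at hidx
      omega
    have hL : ∀ L : Subgroup T, zpowers a ≤ L → t ∈ L → L = ⊤ := by
      intro L hL htL
      rw [Subgroup.eq_top_iff']
      intro g
      by_cases hg : g ∈ zpowers a
      · exact hL hg
      · have h3 : g * t ∈ zpowers a := (Subgroup.mul_mem_iff_of_index_two hidx).2 ⟨fun h => absurd h hg,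
          fun h => absurd h ht⟩
        have h4 : g = g * t * t⁻¹ := by group
        rw [h4]
        exact mul_mem (hL h3) (inv_mem htL)
    have hC : ∀ x ∈ zpowers a, t * x = x * t → x ^ 2 = 1 := by
      intro x hx htx
      by_contra hx2
      have hox : orderOf x = 4 := by
        have h2 : orderOf x ∣ 4 := by
          rw [← hoa, ← Nat.card_zpowers a]
          have := orderOf_dvd_natCard (⟨x, hx⟩ : zpowers a)
          rwa [Subgroup.orderOf_mk] at this
        have h4 : orderOf x ≠ 1 := by
          intro h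
          rw [orderOf_eq_one_iff] at h
          apply hx2
          rw [h, one_pow]
        have h5 : orderOf x ≠ 2 := by
          intro h
          apply hx2
          rw [← h]; exact pow_orderOf_eq_one x
        have h6 : orderOf x ≤ 4 := Nat.le_of_dvd (by norm_num) h2
        obtain ⟨c, hc⟩ := h2
        generalize orderOf x = n at *
        interval_cases n <;> omega
      have hxa : zpowers x = zpowers a := Subgroup.eq_of_le_of_card_ge (zpowers_le.2 hx) (by
        rw [Nat.card_zpowers, Nat.card_zpowers, hox, hoa])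
      apply hcomm
      have hta : t * a = a * t := by
        have h7 : a ∈ zpowers x := by rw [hxa]; exact mem_zpowers a
        obtain ⟨k, hk⟩ := mem_zpowers_iff.1 h7
        rw [← hk]
        exact ((show Commute t x from htx).zpow_right k).eq
      have h8 : centralizer ({a} : Set T) = ⊤ := hL _ (zpowers_le.2 (mem_centralizer_singleton_iff.2 rfl))
        (mem_centralizer_singleton_iff.2 hta)
      have h9 : centralizer ({t} : Set T) = ⊤ := hL _ (zpowers_le.2 (mem_centralizer_singleton_iff.2 hta.symm))
        (mem_centralizer_singleton_iff.2 rfl)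
      intro x y
      have h10 : centralizer ({y} : Set T) = ⊤ := by
        have hy1 : y ∈ centralizer ({a} : Set T) := by rw [h8]; trivial
        have hy2 : y ∈ centralizer ({t} : Set T) := by rw [h9]; trivial
        exact hL _ (zpowers_le.2 (mem_centralizer_singleton_iff.2 (mem_centralizer_singleton_iff.1 hy1).symm))
          (mem_centralizer_singleton_iff.2 (mem_centralizer_singleton_iff.1 hy2).symm)
      have : x ∈ centralizer ({y} : Set T) := by rw [h10]; trivial
      exact mem_centralizer_singleton_iff.1 this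
    rcases H76.MaxClass.trichotomy_of_cyclic (k := 0) (by rw [hoa]; norm_num) hidx ht hC with h | h | ⟨l, hl, -⟩
    · exact Or.inl h
    · exact Or.inr h
    · omega

theorem q8inv : ∀ x : QuaternionGroup 2, x * x = 1 → x = 1 ∨ x = QuaternionGroup.a 2 := by decide

variable {G : Type u} [Group G] [Finite G]

theorem noQ8 [IsSimpleGroup G] (h : Nat.card G = 175560) (S : Sylow 2 G)
    (e : (S : Subgroup G) ≃* QuaternionGroup 2) : False := by
  classical
  have f2 : Fact (Nat.Prime 2) := ⟨Nat.prime_two⟩
  have hncy : ¬ IsCyclic G := by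
    intro hc
    apply hnc h
    letI := hc.commGroup
    exact ⟨⟨fun a b => mul_comm a b⟩⟩
  obtain ⟨E, hE⟩ := Cfsg.Agent.S0204.result (G := G) hncy
  have hE4 : Nat.card E = 4 := hE.card_four
  have hE2 : ∀ x : E, x * x = 1 := fun x => hE.mul_self x
  have hp : IsPGroup 2 E := IsPGroup.of_card (n := 2) (by rw [hE4]; norm_num)
  obtain ⟨T, hT⟩ := hp.exists_le_sylow
  let f : E →* QuaternionGroup 2 := (e.toMonoidHom.comp (Sylow.equiv T S).toMonoidHom).comp (Subgroup.inclusion hT)
  have hf : Function.Injective f :=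
    (e.injective.comp (Sylow.equiv T S).injective).comp (Subgroup.inclusion_injective hT)
  have h3 : ∀ x : E, f x ∈ ({1, QuaternionGroup.a 2} : Finset (QuaternionGroup 2)) := by
    intro x
    have := q8inv (f x) (by rw [← map_mul, hE2, map_one])
    simpa using this
  let g : E → ({1, QuaternionGroup.a 2} : Finset (QuaternionGroup 2)) := fun x => ⟨f x, h3 x⟩
  have hg : Function.Injective g := fun x y hxy => hf (congrArg Subtype.val hxy)
  have h4 := Nat.card_le_card_of_injective g hg
  rw [hE4] at h4
  have h5 : Nat.card ({1, QuaternionGroup.a 2} : Finset (QuaternionGroup 2)) ≤ 2 := by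
    rw [Nat.card_eq_fintype_card, Fintype.card_coe]
    exact Finset.card_le_two
  omega

theorem syl [IsSimpleGroup G] (h : Nat.card G = 175560) (S : Sylow 2 G) : FD S ∨ H28.GW8.DS G := by
  have f2 : Fact (Nat.Prime 2) := ⟨Nat.prime_two⟩
  have h8 : Nat.card (S : Subgroup G) = 8 := by
    have := card_sylow_eq_pow (a := 3) (m := 21945) (by rw [h]; norm_num) (by norm_num) S
    rw [this]; norm_num
  have hperf : _root_.commutator G = ⊤ := H58.AbSyl.commutator_eq_top (hnc h)
  rcases ord8 h8 with h1 | ⟨h1, z, hz1, hz⟩ | h1 | ⟨⟨e⟩⟩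
  · left
    have h2 : ∀ s ∈ S, s * s = 1 := fun s hs => congrArg Subtype.val (h1 ⟨s, hs⟩)
    have hc : IsMulCommutative (S : Subgroup G) :=
      ⟨⟨fun a b => Subtype.ext (comm_of_sq (S := (S : Subgroup G)) h2 a a.2 b b.2)⟩⟩
    exact ⟨h8, h2, fun r hr hfix => H58.AbSyl.eq_one_of_fixed hperf S hc hr hfix⟩
  · exfalso
    have hc : IsMulCommutative (S : Subgroup G) := ⟨⟨fun a b => h1 a b⟩⟩
    apply hz1
    apply Subtype.ext
    apply H58.AbSyl.eq_one_of_fixed hperf S hc z.2
    intro n hn
    have h2 := hz ((S : Subgroup G).normalizerMonoidHom ⟨n, hn⟩)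
    have h3 : n * (z : G) * n⁻¹ = z := congrArg Subtype.val h2
    calc n * (z : G) = n * (z : G) * n⁻¹ * n := by group
      _ = z * n := by rw [h3]
  · exact Or.inr ⟨S, 4, by norm_num, h1⟩
  · exact (noQ8 h S e).elim

theorem noKnown (h : Nat.card G = 175560) (hK : H28.GW8.Known G) : False := by
  rcases hK with ⟨F, i1, i2, h1, h2, ⟨e⟩⟩ | ⟨⟨e⟩⟩
  · have h3 := H98.DicksonPGL.card_psl_eq F
    rw [← Nat.card_congr e.toEquiv, h, Nat.card_eq_fintype_card] at h3
    set q := Fintype.card F with hq
    have h4 : Nat.gcd 2 (q - 1) = 2 := by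
      apply Nat.gcd_eq_left
      obtain ⟨k, hk⟩ := h1
      exact ⟨k, by omega⟩
    rw [h4] at h3
    obtain ⟨p, hp⟩ : ∃ p, q = p + 1 := ⟨q - 1, by omega⟩
    rw [hp] at h3
    simp only [Nat.add_sub_cancel] at h3
    have h5 : (p + 1 + 1) * ((p + 1) * p) = 351120 := by omega
    rcases Nat.lt_or_ge p 70 with h6 | h6
    · have h7 : p ≤ 69 := by omega
      have : (p + 1 + 1) * ((p + 1) * p) ≤ (69 + 1 + 1) * ((69 + 1) * 69) :=
        Nat.mul_le_mul (by omega) (Nat.mul_le_mul (by omega) h7)
      omega
    · have : (70 + 1 + 1) * ((70 + 1) * 70) ≤ (p + 1 + 1) * ((p + 1) * p) :=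
        Nat.mul_le_mul (by omega) (Nat.mul_le_mul (by omega) h6)
      omega
  · have h3 := Nat.card_congr e.toEquiv
    rw [h, nat_card_alternatingGroup, Nat.card_eq_fintype_card, Fintype.card_fin] at h3
    norm_num [Nat.factorial] at h3

end H59.J1
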